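import Cfsg.Agent.H54.J4A10.Std
import Cfsg.Agent.H82.J4A10.Defs

/-!
Every self-centralising elementary subgroup of order `2 ^ 10` of the normalizer of `V` is conjugate
to the standard one.
-/

set_option autoImplicit false
set_option maxRecDepth 20000

open Subgroup

namespace H54.J4A10

open Cfsg.Agent.H69.J4

theorem xor_induction {P : ℕ → Prop} (h0 : P 0) (hx : ∀ a b, P a → P b → P (a ^^^ b)) :
    ∀ n, (∀ j < n, P (2 ^ j)) → ∀ a < 2 ^ n, P a
  | 0, _, a, ha => by
    obtain rfl : a = 0 := by simpa using ha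
    exact h0
  | n + 1, h, a, ha => by
    by_cases hlt : a < 2 ^ n
    · exact xor_induction h0 hx n (fun j hj => h j (by omega)) a hlt
    rw [pow_succ'] at ha
    have hc := xor_induction h0 hx n (fun j hj => h j (by omega)) (a - 2 ^ n) (by omega)
    have he : a = 2 ^ n ^^^ (a - 2 ^ n) := by
      conv_lhs => rw [show a = 2 ^ n * 1 + (a - 2 ^ n) by omega]
      refine Nat.eq_of_testBit_eq fun i => ?_
      rw [Nat.testBit_two_pow_mul_add _ (by omega : a - 2 ^ n < 2 ^ n), Nat.testBit_xor,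
        Nat.testBit_two_pow]
      rcases lt_trichotomy i n with hi | hi | hi
      · simp [hi, show ¬ n = i by omega]
      · subst hi
        simp [Nat.testBit_lt_two_pow (show a - 2 ^ i < 2 ^ i by omega)]
      · rw [if_neg (by omega), Nat.testBit_lt_two_pow (lt_of_lt_of_le
          (show a - 2 ^ n < 2 ^ n by omega) (Nat.pow_le_pow_right (by norm_num) hi.le))]
        obtain ⟨m, hm⟩ : ∃ m, i - n = m + 1 := ⟨i - n - 1, by omega⟩
        simp [show ¬ n = i by omega, hm, Nat.testBit_succ]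
    rw [he]
    exact hx _ _ (h n (by omega)) hc

theorem reps_lt : ∀ r ∈ reps, r < 2048 := by decide +kernel

theorem isTen_map {G : Type*} [Group G] {A : Subgroup G} (hA : H82.J4A10.IsTen A) (g : G) :
    H82.J4A10.IsTen (A.map (MulAut.conj g).toMonoidHom) := by
  refine ⟨⟨⟨⟨?_⟩⟩, ?_⟩, ?_, ?_⟩
  · rintro ⟨_, a, ha, rfl⟩ ⟨_, b, hb, rfl⟩
    obtain ⟨⟨⟨hc⟩⟩, -⟩ := hA.elem
    refine Subtype.ext ?_
    show (MulAut.conj g).toMonoidHom a * (MulAut.conj g).toMonoidHom b = _ * _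
    rw [← map_mul, ← map_mul]
    exact congrArg _ (congrArg Subtype.val (hc ⟨a, ha⟩ ⟨b, hb⟩))
  · rintro _ ⟨a, ha, rfl⟩
    rw [← map_pow, hA.elem.2 a ha, map_one]
  · rw [← hA.card_A]
    exact (Nat.card_congr (A.equivMapOfInjective _ (MulAut.conj g).injective).toEquiv).symm
  · refine le_antisymm (fun x hx => ?_) ?_
    · refine ⟨g⁻¹ * x * g, hA.cent.le (mem_centralizer_iff.2 fun a ha => ?_), by simp [mul_assoc]⟩
      have h := mem_centralizer_iff.1 hx _ ⟨a, ha, rfl⟩
      simp only [MulEquiv.coe_toMonoidHom, MulAut.conj_apply] at h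
      calc a * (g⁻¹ * x * g) = g⁻¹ * (g * a * g⁻¹ * x) * g := by group
        _ = g⁻¹ * (x * (g * a * g⁻¹)) * g := by rw [h]
        _ = g⁻¹ * x * g * a := by group
    · rintro _ ⟨a, ha, rfl⟩
      refine mem_centralizer_iff.2 ?_
      rintro _ ⟨b, hb, rfl⟩
      rw [← map_mul, ← map_mul, mem_centralizer_iff.1 (hA.cent.ge ha) b hb]

namespace Cfg

variable {G : Type*} [Group G] {z : G} {V : Subgroup G} (C : Cfg z V)

theorem co_cases {v : ℕ} (hv : v < 2048) :
    ∃ r ∈ reps, ∃ a, a < 64 ∧ v = r ^^^ wv a := by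
  obtain ⟨r, hr, hb⟩ := List.any_eq_true.1 ((List.all_eq_true.1 reps_ok) v (List.mem_range.2 hv))
  have hr' : r < 2048 := reps_lt r hr
  have hx : v ^^^ r < 2048 := Nat.xor_lt_two_pow (n := 11) hv hr'
  have h := (List.all_eq_true.1 wMask_ok) _ (List.mem_range.2 hx)
  rw [beq_iff_eq, hb] at h
  obtain ⟨a, ha, e⟩ := List.any_eq_true.1 h.symm
  refine ⟨r, hr, a, List.mem_range.1 ha, ?_⟩
  rw [Nat.eq_of_beq_eq_true e, Nat.xor_comm v r, ← Nat.xor_assoc, Nat.xor_self, Nat.zero_xor]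

/-- The elements of the complement occurring in the elements of a subgroup of the normalizer. -/
noncomputable def part {A : Subgroup G} (hA : A ≤ normalizer (V : Set G)) : ↥A →* ↥C.K :=
  MonoidHom.mk' (fun g => (C.exists_decomp (hA g.2)).choose_spec.2.choose) fun g h => by
    have hv := (C.exists_decomp (hA g.2)).choose_spec.1
    have eg := (C.exists_decomp (hA g.2)).choose_spec.2.choose_spec
    have hw := (C.exists_decomp (hA h.2)).choose_spec.1
    have eh := (C.exists_decomp (hA h.2)).choose_spec.2.choose_spec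
    have hu := (C.exists_decomp (hA (g * h).2)).choose_spec.1
    have egh := (C.exists_decomp (hA (g * h).2)).choose_spec.2.choose_spec
    have := congrArg₂ (· * ·) eg eh
    rw [C.decomp_mul hv hw] at this
    exact (C.decomp_unique hu (Nat.xor_lt_two_pow (n := 11) hv ((C.code_spec _).ap_lt' _))
      (egh.symm.trans this)).2

theorem part_spec {A : Subgroup G} (hA : A ≤ normalizer (V : Set G)) (g : ↥A) :
    ∃ v, v < 2048 ∧ (g : G) = C.co v * (C.part hA g : G) :=
  ⟨_, (C.exists_decomp (hA g.2)).choose_spec.1,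
    (C.exists_decomp (hA g.2)).choose_spec.2.choose_spec⟩

theorem part_eq {A : Subgroup G} (hA : A ≤ normalizer (V : Set G)) (g : ↥A) {v : ℕ} (hv : v < 2048)
    {k : ↥C.K} (e : (g : G) = C.co v * (k : G)) : C.part hA g = k := by
  obtain ⟨w, hw, e'⟩ := C.part_spec hA g
  exact (C.decomp_unique hw hv (e'.symm.trans e)).2

variable {A : Subgroup G} (hT : H82.J4A10.IsTen A) (hA : A ≤ normalizer (V : Set G))
include hT hA

/-- The vectors of `V` in `A` are those fixed by the part of `A` in the complement. -/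
theorem co_mem_iff {v : ℕ} (hv : v < 2048) :
    C.co v ∈ A ↔ ∀ q ∈ (C.part hA).range, ap (C.code q) v = v := by
  obtain ⟨⟨⟨hc⟩⟩, -⟩ := hT.elem
  constructor
  · rintro h _ ⟨g, rfl⟩
    obtain ⟨w, hw, e⟩ := C.part_spec hA g
    have h2 := congrArg Subtype.val (hc ⟨C.co v, h⟩ g)
    simp only [coe_mul] at h2
    rw [e, show C.co v = C.co v * ((1 : ↥C.K) : G) by simp, C.decomp_mul hv hw,
      C.decomp_mul hw hv, C.code_one, ap_one11 hw] at h2
    have h3 := (C.decomp_unique (Nat.xor_lt_two_pow (n := 11) hv hw)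
      (Nat.xor_lt_two_pow (n := 11) hw ((C.code_spec _).ap_lt' _)) h2).1
    rw [Nat.xor_comm] at h3
    exact ((Nat.xor_right_inj).1 h3).symm
  · intro h
    refine hT.cent.le (mem_centralizer_iff.2 fun g hg => ?_)
    obtain ⟨w, hw, e⟩ := C.part_spec hA ⟨g, hg⟩
    simp only at e
    rw [e, mul_assoc, C.k_co _ hv, h _ ⟨⟨g, hg⟩, rfl⟩, ← mul_assoc, (C.co_comm hw hv).eq, mul_assoc]

open scoped Classical in
theorem card_part :
    Nat.card ↥(C.part hA).range *
      ((Finset.range 2048).filter fun v => ∀ q ∈ (C.part hA).range, ap (C.code q) v = v).card = 1024 := by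
  set s := (Finset.range 2048).filter fun v => ∀ q ∈ (C.part hA).range, ap (C.code q) v = v with hs
  have hmem : ∀ v, v ∈ s → v < 2048 ∧ C.co v ∈ A := fun v hv => by
    rw [hs, Finset.mem_filter, Finset.mem_range] at hv
    exact ⟨hv.1, (C.co_mem_iff hT hA hv.1).2 hv.2⟩
  have hker : Nat.card ↥(C.part hA).ker = s.card := by
    rw [← Nat.card_eq_finsetCard]
    refine (Nat.card_eq_of_bijective (fun v : ↥s => (⟨⟨C.co v, (hmem v v.2).2⟩,
      C.part_eq hA _ (hmem v v.2).1 (k := 1) (by simp)⟩ : ↥(C.part hA).ker)) ⟨fun a b e => ?_, ?_⟩).symm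
    · exact Subtype.ext (C.co_inj _ (hmem a a.2).1 _ (hmem b b.2).1
        (congrArg (fun x : ↥(C.part hA).ker => ((x : ↥A) : G)) e))
    · rintro ⟨g, hg⟩
      obtain ⟨v, hv, e⟩ := C.part_spec hA g
      rw [show C.part hA g = 1 from hg] at e
      simp only [coe_one, mul_one] at e
      refine ⟨⟨v, ?_⟩, Subtype.ext (Subtype.ext e.symm)⟩
      rw [hs, Finset.mem_filter, Finset.mem_range]
      exact ⟨hv, (C.co_mem_iff hT hA hv).1 (e ▸ g.2)⟩
  have h := (C.part hA).ker.card_mul_index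
  rw [index_ker, hker, hT.card_A] at h
  rw [mul_comm, h]; norm_num

theorem classify_aux (hQ : (C.part hA).range ≤ C.ser 10) :
    ∃ v, v < 2048 ∧ A.map (MulAut.conj (C.co v)).toMonoidHom = C.A0 := by
  classical
  obtain ⟨⟨⟨hc⟩⟩, he⟩ := hT.elem
  have hQ4 : (C.part hA).range = C.ser 4 := C.unique_Q hQ (fun q hq => ?_) (fun p hp q hq => ?_)
    (C.card_part hT hA)
  rotate_left
  · obtain ⟨g, rfl⟩ := hq
    rw [← map_mul, ← map_one (C.part hA)]
    exact congrArg _ (Subtype.ext (by rw [coe_mul, ← pow_two, he g g.2]; rfl))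
  · obtain ⟨g, rfl⟩ := hp
    obtain ⟨h, rfl⟩ := hq
    show _ = _
    rw [← map_mul, ← map_mul, hc]
  have hW : ∀ a, a < 64 → C.co (wv a) ∈ A := fun a _ =>
    (C.co_mem_iff hT hA (wv_lt a)).2 fun q hq => by
      rw [hQ4] at hq
      obtain ⟨i, hi, rfl⟩ := C.exists_of_mem 4 (by norm_num) q hq
      exact C.te_wv hi a
  have hex : ∀ j < 4, ∃ r ∈ cand j, C.co r * (C.te (2 ^ j) : G) ∈ A := by
    intro j hj
    obtain ⟨g, hg⟩ : C.te (2 ^ j) ∈ (C.part hA).range := by rw [hQ4]; exact C.gen_mem hj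
    obtain ⟨v, hv, e⟩ := C.part_spec hA g
    rw [hg] at e
    obtain ⟨r, hr, a, ha, rfl⟩ := co_cases hv
    have hr' : r < 2048 := reps_lt r hr
    have hA' : C.co r * (C.te (2 ^ j) : G) ∈ A := by
      have := mul_mem (hW a ha) (e ▸ g.2 : C.co (r ^^^ wv a) * (C.te (2 ^ j) : G) ∈ A)
      rwa [← mul_assoc, ← C.co_xor _ (wv_lt a) _ hv, Nat.xor_comm r, ← Nat.xor_assoc,
        Nat.xor_self, Nat.zero_xor] at this
    refine ⟨r, ?_, hA'⟩
    have h2 := he _ hA'
    rw [pow_two, C.decomp_mul hr' hr', C.code_te (show 2 ^ j < 1024 from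
      Nat.pow_lt_pow_right (n := 10) (by norm_num) (by omega))] at h2
    have hgl : ∀ v, ap (gen j) v < 2048 := fun v => by
      have := (C.code_spec (C.te (2 ^ j))).ap_lt' v
      rwa [C.code_te (show 2 ^ j < 1024 from Nat.pow_lt_pow_right (n := 10) (by norm_num) (by omega))]
        at this
    have h3 := (C.decomp_unique (w := 0) (k := 1) (Nat.xor_lt_two_pow (n := 11) hr' (hgl r))
      (by norm_num) (h2.trans (by rw [C.co_zero]; simp))).1
    rw [Nat.xor_eq_zero_iff] at h3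
    refine List.mem_filter.2 ⟨hr, ?_⟩
    rw [show ap (gen j) r = r from h3.symm]
    exact Nat.beq_refl _
  obtain ⟨a, hca, hA0'⟩ := hex 0 (by norm_num)
  obtain ⟨b, hcb, hA1'⟩ := hex 1 (by norm_num)
  obtain ⟨c, hcc, hA2'⟩ := hex 2 (by norm_num)
  obtain ⟨e, hce, hA3'⟩ := hex 3 (by norm_num)
  have hlt : ∀ i, ∀ r ∈ cand i, r < 2048 := fun i r hr => by
    have h : ∀ r ∈ reps, r < 2048 := by decide +kernel
    exact h r (List.mem_filter.1 hr).1
  have hlcom : ∀ i j u w, i < 4 → j < 4 → u < 2048 → w < 2048 →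
      C.co u * (C.te (2 ^ i) : G) ∈ A → C.co w * (C.te (2 ^ j) : G) ∈ A → lcom i j u w = true := by
    intro i j u w hi hj hu hw hui hwj
    have hi' : (2 : ℕ) ^ i < 1024 := Nat.pow_lt_pow_right (n := 10) (by norm_num) (by omega)
    have hj' : (2 : ℕ) ^ j < 1024 := Nat.pow_lt_pow_right (n := 10) (by norm_num) (by omega)
    have h := congrArg Subtype.val (hc ⟨_, hui⟩ ⟨_, hwj⟩)
    simp only [coe_mul] at h
    rw [C.decomp_mul hu hw, C.decomp_mul hw hu] at h
    have h1 := (C.decomp_unique (Nat.xor_lt_two_pow (n := 11) hu ((C.code_spec _).ap_lt' _))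
      (Nat.xor_lt_two_pow (n := 11) hw ((C.code_spec _).ap_lt' _)) h).1
    rw [C.code_te hi', C.code_te hj'] at h1
    rw [lcom, gen, gen, h1]
    exact Nat.beq_refl _
  have hl := (List.all_eq_true.1 ((List.all_eq_true.1 ((List.all_eq_true.1
    ((List.all_eq_true.1 lift_ok) a hca)) b hcb)) c hcc)) e hce
  rw [Bool.or_eq_true, Bool.not_eq_true'] at hl
  have ha' := hlt _ a hca
  have hb' := hlt _ b hcb
  have hc' := hlt _ c hcc
  have he' := hlt _ e hce
  rw [hlcom 0 1 a b (by norm_num) (by norm_num) ha' hb' hA0' hA1',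
    hlcom 0 2 a c (by norm_num) (by norm_num) ha' hc' hA0' hA2',
    hlcom 0 3 a e (by norm_num) (by norm_num) ha' he' hA0' hA3',
    hlcom 1 2 b c (by norm_num) (by norm_num) hb' hc' hA1' hA2',
    hlcom 1 3 b e (by norm_num) (by norm_num) hb' he' hA1' hA3',
    hlcom 2 3 c e (by norm_num) (by norm_num) hc' he' hA2' hA3'] at hl
  obtain ⟨v, hv, hm⟩ := List.any_eq_true.1 (hl.resolve_left (by decide))
  simp only [Bool.and_eq_true] at hm
  obtain ⟨⟨⟨m0, m1⟩, m2⟩, m3⟩ := hm
  have hv2 : v < 2048 := by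
    simp only [List.mem_cons, List.not_mem_nil, or_false] at hv
    omega
  refine ⟨v, hv2, ?_⟩
  set B := A.map (MulAut.conj (C.co v)).toMonoidHom
  have hlow : ∀ a, a < 64 → C.ael a ∈ B := fun a ha =>
    ⟨C.co (wv a), hW a ha, by
      rw [C.ael_low ha]
      show C.co v * C.co (wv a) * (C.co v)⁻¹ = _
      rw [(C.co_comm hv2 (wv_lt a)).eq, mul_inv_cancel_right]⟩
  have hhigh : ∀ j u, j < 4 → u < 2048 → C.co u * (C.te (2 ^ j) : G) ∈ A → moves v j u = true →
      C.ael (2 ^ (6 + j)) ∈ B := by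
    intro j u hj hu huA hm
    have hj' : (2 : ℕ) ^ j < 1024 := Nat.pow_lt_pow_right (n := 10) (by norm_num) (by omega)
    have hj16 : (2 : ℕ) ^ j < 16 := Nat.pow_lt_pow_right (n := 4) (by norm_num) hj
    have hg : ap (gen j) v < 2048 := by
      have := (C.code_spec (C.te (2 ^ j))).ap_lt' v
      rwa [C.code_te hj'] at this
    have hx : u ^^^ v ^^^ ap (gen j) v < 2048 :=
      Nat.xor_lt_two_pow (n := 11) (Nat.xor_lt_two_pow (n := 11) hu hv2) hg
    have h := (List.all_eq_true.1 wMask_ok) _ (List.mem_range.2 hx)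
    rw [beq_iff_eq, show wMask.testBit (u ^^^ v ^^^ ap (gen j) v) = true from hm] at h
    obtain ⟨w, hw, ew⟩ := List.any_eq_true.1 h.symm
    rw [List.mem_range] at hw
    have ew := Nat.eq_of_beq_eq_true ew
    have hmem : C.co (wv w) * (C.te (2 ^ j) : G) ∈ B := ⟨C.co u * (C.te (2 ^ j) : G), huA, by
      show C.co v * (C.co u * (C.te (2 ^ j) : G)) * (C.co v)⁻¹ = _
      rw [C.co_inv hv2, ← mul_assoc (C.co v), ← C.co_xor v hv2 u hu, mul_assoc, C.k_co _ hv2,
        ← mul_assoc, ← C.co_xor _ (Nat.xor_lt_two_pow (n := 11) hv2 hu) _ ((C.code_spec _).ap_lt' _),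
        C.code_te hj', ew, Nat.xor_comm v u]
      rfl⟩
    have h1 := B.mul_mem (hlow w hw) hmem
    rwa [C.ael_low hw, ← mul_assoc, C.co_sq (wv_lt w), one_mul,
      show (C.te (2 ^ j) : G) = C.ael (2 ^ (6 + j)) by
        rw [C.ael_eq (by rw [pow_add]; omega), show 2 ^ (6 + j) % 64 = 0 by rw [pow_add]; omega,
          show 2 ^ (6 + j) / 64 = 2 ^ j by rw [pow_add]; omega, show wv 0 = 0 from ap_zero_right _,
          C.co_zero, one_mul]] at h1
  have hall : ∀ a, a < 1024 → C.ael a ∈ B := fun m hm => (xor_induction (P := fun m =>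
      m < 1024 ∧ C.ael m ∈ B) ⟨by norm_num, by rw [C.ael_zero]; exact one_mem _⟩
    (fun x y hx hy => ⟨Nat.xor_lt_two_pow (n := 10) hx.1 hy.1, by
      rw [C.ael_xor hx.1 hy.1]; exact mul_mem hx.2 hy.2⟩) 10 (fun j hj => by
      refine ⟨Nat.pow_lt_pow_right (n := 10) (by norm_num) hj, ?_⟩
      by_cases h6 : j < 6
      · exact hlow _ (Nat.pow_lt_pow_right (n := 6) (by norm_num) h6)
      obtain ⟨i, rfl⟩ : ∃ i, j = 6 + i := ⟨j - 6, by omega⟩
      have hi : i < 4 := by omega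
      interval_cases i
      · exact hhigh 0 a (by norm_num) ha' hA0' m0
      · exact hhigh 1 b (by norm_num) hb' hA1' m1
      · exact hhigh 2 c (by norm_num) hc' hA2' m2
      · exact hhigh 3 e (by norm_num) he' hA3' m3) m hm).2
  haveI : Finite ↥B := Nat.finite_of_card_ne_zero (by rw [(isTen_map hT _).card_A]; norm_num)
  refine (Subgroup.eq_of_le_of_card_ge (fun g hg => ?_) ?_).symm
  · obtain ⟨a, ha, rfl⟩ := C.mem_A0.1 hg
    exact hall a ha
  · rw [C.card_A0, (isTen_map hT _).card_A]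

omit hT hA in
/-- Every self-centralising subgroup in the normalizer of `V` is conjugate to the standard one. -/
theorem classify (A : Subgroup G) (hT : H82.J4A10.IsTen A) (hA : A ≤ normalizer (V : Set G)) :
    ∃ n ∈ normalizer (V : Set G), A = C.A0.map (MulAut.conj n).toMonoidHom := by
  haveI := C.finite_K
  haveI : Fact (Nat.Prime 2) := ⟨Nat.prime_two⟩
  let S : Sylow 2 ↥C.K := Sylow.ofCard (C.ser 10) (by
    rw [C.card_ser, C.card_K]
    have h : (244823040 : ℕ).factorization 2 = 10 := by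
      rw [show (244823040 : ℕ) = 2 ^ 10 * 239085 by norm_num,
        Nat.factorization_mul (by norm_num) (by norm_num)]
      rw [Nat.Prime.factorization_pow Nat.prime_two]
      simp [Nat.factorization_eq_zero_of_not_dvd (show ¬ 2 ∣ 239085 by norm_num)]
    rw [h]; norm_num)
  have hp : IsPGroup 2 ↥(C.part hA).range := by
    intro q
    obtain ⟨g, hg⟩ := q.2
    refine ⟨1, Subtype.ext ?_⟩
    show (q : ↥C.K) ^ 2 ^ 1 = 1
    rw [← hg, ← map_pow, show g ^ 2 ^ 1 = 1 from Subtype.ext (by simpa using hT.elem.2 g g.2), map_one]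
  obtain ⟨T, hTQ⟩ := hp.exists_le_sylow
  obtain ⟨k, hk⟩ := MulAction.exists_smul_eq ↥C.K T S
  have hkN : (k : G) ∈ normalizer (V : Set G) := C.K_le k.2
  set A' := A.map (MulAut.conj (k : G)).toMonoidHom
  have hA' : A' ≤ normalizer (V : Set G) := by
    rintro _ ⟨g, hg, rfl⟩
    exact mul_mem (mul_mem hkN (hA hg)) (inv_mem hkN)
  have hQ' : (C.part hA').range ≤ C.ser 10 := by
    rintro _ ⟨⟨_, g, hg, rfl⟩, rfl⟩
    obtain ⟨v, hv, e⟩ := C.part_spec hA ⟨g, hg⟩
    have hmem : k * C.part hA ⟨g, hg⟩ * k⁻¹ ∈ C.ser 10 := by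
      have : k * C.part hA ⟨g, hg⟩ * k⁻¹ ∈ ((k • T : Sylow 2 ↥C.K) : Subgroup ↥C.K) :=
        Subgroup.smul_mem_pointwise_smul _ (MulAut.conj k) _ (hTQ ⟨_, rfl⟩)
      rwa [hk] at this
    have hw := (C.code_spec k).ap_lt' v
    convert hmem using 1
    refine C.part_eq hA' _ hw ?_
    show (k : G) * g * (k : G)⁻¹ = _
    calc (k : G) * g * (k : G)⁻¹
        = (k : G) * (C.co v * (C.part hA ⟨g, hg⟩ : G)) * (k : G)⁻¹ := by rw [← e]
      _ = _ := ?_
    rw [← mul_assoc, C.k_co k hv]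
    simp [mul_assoc]
  obtain ⟨v, hv, e⟩ := C.classify_aux (isTen_map hT _) hA' hQ'
  refine ⟨(C.co v * (k : G))⁻¹, inv_mem (mul_mem (le_normalizer (C.co_mem _ hv)) hkN), ?_⟩
  rw [← e, Subgroup.map_map, Subgroup.map_map]
  convert (Subgroup.map_id A).symm using 1
  congr 1
  ext x
  simp [mul_assoc]

end Cfg

end H54.J4A10
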