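import Cfsg.Agent.H54.J4A10.Gam
import Cfsg.Agent.H54.J4A10.Class

/-!
The common stabiliser of `V` and of the standard subgroup: its order and its orbits on the codes.
-/

set_option autoImplicit false
set_option maxRecDepth 20000

open Subgroup

namespace H54.J4A10

open Cfsg.Agent.H69.J4

/-- The translations allowed in the stabiliser of the standard subgroup. -/
def veB (v : ℕ) : Bool := (List.range 16).all fun i => wMask.testBit (v ^^^ ap (tab i) v)

theorem veB_card : ((List.range 2048).filter veB).length = 1024 := by decide +kernel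

theorem veB_iff {v : ℕ} (hv : v < 2048) :
    veB v = true ↔ ∀ i < 16, ∃ a, a < 64 ∧ wv a = v ^^^ ap (tab i) v := by
  simp only [veB, List.all_eq_true, List.mem_range]
  refine forall₂_congr fun i hi => ?_
  refine wMask_iff (Nat.xor_lt_two_pow (n := 11) hv (ap_lt (n := 11) ?_ v))
  have key : ∀ i < 16, ∀ x ∈ tab i, x < 2 ^ 11 := by decide +kernel
  exact key i hi

theorem act_lt : ∀ g < 10, ∀ x ∈ stA.getD g [], x < 1024 := by decide +kernel

namespace Cfg

variable {G : Type*} [Group G] {z : G} {V : Subgroup G} (C : Cfg z V)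

theorem co_k_mem {v : ℕ} (hv : v < 2048) (k : ↥C.K) :
    C.co v * (k : G) ∈ normalizer (V : Set G) :=
  mul_mem (le_normalizer (C.co_mem v hv)) (C.K_le k.2)

theorem conj_ael_iff {v : ℕ} (hv : v < 2048) (k : ↥C.K) {a c : ℕ} (ha : a < 1024) (hc : c < 1024) :
    C.co v * (k : G) * C.ael a * (C.co v * (k : G))⁻¹ = C.ael c ↔
      k * C.te (a / 64) = C.te (c / 64) * k ∧
        v ^^^ ap (C.code k) (wv (a % 64)) = wv (c % 64) ^^^ ap (C.code (C.te (c / 64))) v := by
  rw [mul_inv_eq_iff_eq_mul, C.ael_eq ha, C.ael_eq hc, C.decomp_mul hv (wv_lt _) k _,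
    C.decomp_mul (wv_lt _) hv _ k]
  constructor
  · intro h
    obtain ⟨h1, h2⟩ := C.decomp_unique
      (Nat.xor_lt_two_pow (n := 11) hv ((C.code_spec k).ap_lt' _))
      (Nat.xor_lt_two_pow (n := 11) (wv_lt _) ((C.code_spec _).ap_lt' _)) h
    exact ⟨h2, h1⟩
  · rintro ⟨h1, h2⟩
    rw [h2, h1]

theorem mem_norm_A0 {n : G} (h : ∀ a, a < 1024 → ∃ c, c < 1024 ∧ n * C.ael a * n⁻¹ = C.ael c) :
    n ∈ normalizer (C.A0 : Set G) := by
  haveI : Finite ↥C.A0 := Nat.finite_of_card_ne_zero (by rw [C.card_A0]; norm_num)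
  have he : C.A0.map (MulAut.conj n).toMonoidHom = C.A0 := by
    refine Subgroup.eq_of_le_of_card_ge ?_ ?_
    · rintro _ ⟨g, hg, rfl⟩
      obtain ⟨a, ha, rfl⟩ := C.mem_A0.1 hg
      obtain ⟨c, hc, e⟩ := h a ha
      exact C.mem_A0.2 ⟨c, hc, e.symm⟩
    · exact (Nat.card_congr (C.A0.equivMapOfInjective _ (MulAut.conj n).injective).toEquiv).le
  refine mem_normalizer_iff.2 fun x => ⟨fun hx => ?_, fun hx => ?_⟩
  · exact he.le ⟨x, hx, rfl⟩
  · obtain ⟨y, hy, e⟩ := he.symm.le hx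
    have : y = x := (MulAut.conj n).injective e
    exact this ▸ hy

theorem te_eq_one {i : ℕ} (hi : i < 1024) (h : C.te i = 1) : i = 0 :=
  C.eq_of_te hi (by norm_num) (h.trans C.te_zero.symm)

theorem fix_of_mem {v : ℕ} (hv : v < 2048) {k : ↥C.K}
    (h : C.co v * (k : G) ∈ normalizer (C.A0 : Set G)) : C.FixW k ∧ veB v = true := by
  have hfix : C.FixW k := fun a ha => by
    obtain ⟨c, hc, e⟩ := C.mem_A0.1
      ((mem_normalizer_iff.1 h _).1 (C.mem_A0.2 ⟨a, show a < 1024 by omega, rfl⟩))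
    obtain ⟨h1, h2⟩ := (C.conj_ael_iff hv k (by omega) hc).1 e.symm
    rw [Nat.div_eq_of_lt ha, C.te_zero, mul_one] at h1
    have h0 : c / 64 = 0 := C.te_eq_one (by omega) (mul_eq_right.1 h1.symm)
    refine ⟨c % 64, Nat.mod_lt _ (by norm_num), ?_⟩
    rw [h0, C.te_zero, C.code_one, ap_one11 hv, Nat.mod_eq_of_lt ha, Nat.xor_comm v] at h2
    exact Nat.xor_left_inj.1 h2
  refine ⟨hfix, (veB_iff hv).2 fun i hi => ?_⟩
  have hy : (C.co v * (k : G))⁻¹ * C.ael (64 * i) * (C.co v * (k : G)) ∈ C.A0 := by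
    refine (mem_normalizer_iff.1 h _).2 (C.mem_A0.2 ⟨64 * i, by omega, ?_⟩)
    group
  obtain ⟨a, ha, e⟩ := C.mem_A0.1 hy
  obtain ⟨-, h2⟩ := (C.conj_ael_iff hv k ha (show 64 * i < 1024 by omega)).1 (by rw [e]; group)
  rw [show 64 * i % 64 = 0 by omega, show 64 * i / 64 = i by omega,
    show wv 0 = 0 from ap_zero_right _, Nat.zero_xor, C.code_te (by omega)] at h2
  obtain ⟨b, hb, eb⟩ := hfix (a % 64) (Nat.mod_lt _ (by norm_num))
  refine ⟨b, hb, ?_⟩
  rw [← eb, ← h2, ← Nat.xor_assoc, Nat.xor_self, Nat.zero_xor]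

theorem fixW_surj {k : ↥C.K} (hk : C.FixW k) :
    ∀ b, b < 64 → ∃ a, a < 64 ∧ ap (C.code k) (wv a) = wv b := by
  choose f hf1 hf2 using hk
  have hinj : Function.Injective fun a : Fin 64 => (⟨f a a.2, hf1 a a.2⟩ : Fin 64) := fun a b e => by
    have h1 := hf2 a a.2
    rw [show f a a.2 = f b b.2 from congrArg Fin.val e, ← hf2 b b.2] at h1
    exact Fin.ext (wv_inj a.2 b.2 ((C.code_spec k).2.2.1 _ (wv_lt _) _ (wv_lt _) h1))
  intro b hb
  obtain ⟨a, ha⟩ := (Finite.injective_iff_surjective.1 hinj) ⟨b, hb⟩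
  exact ⟨a, a.2, by rw [hf2 a a.2, show f a a.2 = b from congrArg Fin.val ha]⟩

theorem mem_of_fix {v : ℕ} (hv : v < 2048) {k : ↥C.K} (hk : C.FixW k) (hve : veB v = true) :
    C.co v * (k : G) ∈ normalizer (V : Set G) ⊓ normalizer (C.A0 : Set G) := by
  refine mem_inf.2 ⟨C.co_k_mem hv k, C.mem_norm_A0 fun a ha => ?_⟩
  obtain ⟨i, hi, e⟩ : ∃ i, i < 16 ∧ k * C.te (a / 64) * k⁻¹ = C.te i := by
    refine C.exists_q_of_fix fun b hb => ?_
    obtain ⟨a', ha', e⟩ := C.fixW_surj hk b hb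
    rw [← e, ← ap_mm, ← C.code_mul, inv_mul_cancel_right, C.code_mul, ap_mm, C.te_wv (by omega)]
  obtain ⟨b, hb, eb⟩ := hk (a % 64) (Nat.mod_lt _ (by norm_num))
  obtain ⟨d, hd, ed⟩ := (veB_iff hv).1 hve i hi
  have hbd : b ^^^ d < 64 := Nat.xor_lt_two_pow (n := 6) hb hd
  refine ⟨(b ^^^ d) + 64 * i, by omega, (C.conj_ael_iff hv k ha (by omega)).2 ⟨?_, ?_⟩⟩
  · rw [show ((b ^^^ d) + 64 * i) / 64 = i by omega, ← e, inv_mul_cancel_right]
  · rw [show ((b ^^^ d) + 64 * i) / 64 = i by omega,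
      show ((b ^^^ d) + 64 * i) % 64 = b ^^^ d by omega, eb, wv_xor, ed, C.code_te (by omega),
      Nat.xor_assoc, Nat.xor_assoc, Nat.xor_self, Nat.xor_zero, Nat.xor_comm]

theorem card_stab :
    Nat.card ↥(normalizer (V : Set G) ⊓ normalizer (C.A0 : Set G)) = 2 ^ 14 * 20160 := by
  let S := normalizer (V : Set G) ⊓ normalizer (C.A0 : Set G)
  let f : {v : Fin 2048 // veB v = true} × {k : ↥C.K // C.FixW k} → ↥S := fun p =>
    ⟨C.co p.1.1 * ((p.2.1 : ↥C.K) : G), C.mem_of_fix p.1.1.2 p.2.2 p.1.2⟩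
  have hf : Function.Bijective f := by
    refine ⟨fun p q e => ?_, fun g => ?_⟩
    · obtain ⟨h1, h2⟩ := C.decomp_unique p.1.1.2 q.1.1.2 (congrArg Subtype.val e)
      exact Prod.ext (Subtype.ext (Fin.ext h1)) (Subtype.ext h2)
    · obtain ⟨h1, h2⟩ := mem_inf.1 g.2
      obtain ⟨v, hv, k, e⟩ := C.exists_decomp h1
      rw [e] at h2
      obtain ⟨hk, hve⟩ := C.fix_of_mem hv h2
      exact ⟨(⟨⟨v, hv⟩, hve⟩, ⟨k, hk⟩), Subtype.ext e.symm⟩
  have hcard : Nat.card {v : Fin 2048 // veB v = true} = 1024 := by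
    have e : {v : Fin 2048 // veB v = true} ≃
        {x // x ∈ ((List.range 2048).filter veB).toFinset} :=
      { toFun := fun v => ⟨v.1, by simp [v.2]⟩
        invFun := fun x => ⟨⟨x.1, by have := x.2; simp at this; exact this.1⟩,
          by have := x.2; simp at this; exact this.2⟩
        left_inv := fun v => rfl
        right_inv := fun x => rfl }
    rw [Nat.card_congr e, Nat.card_eq_fintype_card, Fintype.card_coe,
      List.toFinset_card_of_nodup (List.nodup_range.filter _), veB_card]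
  rw [show Nat.card ↥(normalizer (V : Set G) ⊓ normalizer (C.A0 : Set G)) = Nat.card ↥S from rfl,
    ← Nat.card_congr (Equiv.ofBijective f hf), Nat.card_prod, hcard, C.card_fixW]
  norm_num

theorem exists_gen {g : ℕ} (hg : g < 10) :
    ∃ n ∈ normalizer (V : Set G) ⊓ normalizer (C.A0 : Set G), ∀ a, a < 1024 →
      n * C.ael a * n⁻¹ = C.ael (ap (stA.getD g []) a) := by
  have h := (List.all_eq_true.1 stab_ok) g (List.mem_range.2 hg)
  rw [Bool.and_eq_true, Nat.blt_eq] at h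
  obtain ⟨k, hk⟩ := C.code_surj _ (isM_of h.1)
  have hv := h.2
  set v := stV.getD g 0
  have hgen : ∀ j, j < 10 → C.co v * (k : G) * C.ael (2 ^ j) * (C.co v * (k : G))⁻¹ =
      C.ael ((stA.getD g []).getD j 0) := by
    intro j hj
    have hb := (List.all_eq_true.1 ((List.all_eq_true.1 act_ok) g (List.mem_range.2 hg))) j
      (List.mem_range.2 hj)
    simp only [Bool.and_eq_true, Nat.blt_eq, beq_iff_eq] at hb
    obtain ⟨⟨hc, hm⟩, hw⟩ := hb
    set c := (stA.getD g []).getD j 0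
    have hj' : (2 : ℕ) ^ j < 1024 := Nat.pow_lt_pow_right (n := 10) (by norm_num) hj
    have hq : ∀ i, i < 16 → qMat i = tab i := fun i hi => by
      have h := (List.all_eq_true.1 tab_q) i (List.mem_range.2 hi)
      rwa [beq_iff_eq] at h
    rw [hq _ (show 2 ^ j / 64 < 16 by omega), hq _ (show c / 64 < 16 by omega)] at hm
    have hw := Nat.eq_of_beq_eq_true hw
    rw [hq _ (show c / 64 < 16 by omega)] at hw
    refine (C.conj_ael_iff hv k hj' hc).2 ⟨C.code_inj ?_, ?_⟩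
    · rw [C.code_mul, C.code_mul, hk, C.code_te (by omega), C.code_te (by omega), hm]
    · rw [hw, hk, C.code_te (by omega), Nat.xor_assoc, Nat.xor_self, Nat.xor_zero]
  have hlt : ∀ a, ap (stA.getD g []) a < 1024 := fun a => ap_lt (n := 10) (act_lt g hg) a
  have hall : ∀ a, a < 1024 → C.co v * (k : G) * C.ael a * (C.co v * (k : G))⁻¹ =
      C.ael (ap (stA.getD g []) a) := fun a ha => (xor_induction (P := fun a => a < 1024 ∧
        C.co v * (k : G) * C.ael a * (C.co v * (k : G))⁻¹ = C.ael (ap (stA.getD g []) a))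
    ⟨by norm_num, by rw [ap_zero_right, C.ael_zero]; group⟩
    (fun x y hx hy => ⟨Nat.xor_lt_two_pow (n := 10) hx.1 hy.1, by
      rw [C.ael_xor hx.1 hy.1, ap_xor, C.ael_xor (hlt x) (hlt y), ← hx.2, ← hy.2]; group⟩)
    10 (fun j hj => ⟨Nat.pow_lt_pow_right (n := 10) (by norm_num) hj, by
      rw [ap_two_pow]; exact hgen j hj⟩) a ha).2
  exact ⟨_, mem_inf.2 ⟨C.co_k_mem hv k, C.mem_norm_A0 fun a ha => ⟨_, hlt a, hall a ha⟩⟩, hall⟩

theorem exists_chase : ∀ (fuel a r : ℕ), chase fuel a = some r →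
    ∃ n ∈ normalizer (V : Set G) ⊓ normalizer (C.A0 : Set G), n * C.ael r * n⁻¹ = C.ael a := by
  intro fuel
  induction fuel with
  | zero => intro a r h; simp [chase] at h
  | succ fuel ih =>
    intro a r h
    set e := parD.getD a 0 with he
    simp only [chase, ← he] at h
    cases h10 : Nat.beq (e / 1024) 10
    · rw [h10, cond_false] at h
      cases hc : Nat.blt (e / 1024) 10 &&
          Nat.beq (ap (stA.getD (e / 1024) []) (e % 1024)) a
      · rw [hc, cond_false] at h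
        simp at h
      · rw [hc, cond_true] at h
        rw [Bool.and_eq_true, Nat.blt_eq] at hc
        obtain ⟨m, hm, em⟩ := ih _ r h
        obtain ⟨n, hn, en⟩ := C.exists_gen hc.1
        refine ⟨n * m, mul_mem hn hm, ?_⟩
        have := en (e % 1024) (Nat.mod_lt _ (by norm_num))
        rw [Nat.eq_of_beq_eq_true hc.2, ← em] at this
        rw [← this]
        group
    · rw [h10, cond_true, Option.some.injEq] at h
      exact ⟨1, one_mem _, by rw [h]; group⟩

theorem stab_orbit (a b : ℕ) (ha0 : 0 < a) (ha : a < 1024) (hb0 : 0 < b) (hb : b < 1024)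
    (hs : a < 64 ↔ b < 64) (hz : zCode a = zCode b) :
    ∃ n ∈ normalizer (V : Set G) ⊓ normalizer (C.A0 : Set G), n * C.ael a * n⁻¹ = C.ael b := by
  have hch : ∀ a, 0 < a → a < 1024 → chase 40 a = some (cls a) := fun a h0 ha => by
    have h := (List.all_eq_true.1 forest_ok) a (List.mem_range.2 ha)
    rw [Bool.or_eq_true, beq_iff_eq] at h
    exact h.resolve_left fun e => by have := Nat.eq_of_beq_eq_true e; omega
  have hcls : cls a = cls b := by
    have : Nat.blt a 64 = Nat.blt b 64 := by rw [Bool.eq_iff_iff, Nat.blt_eq, Nat.blt_eq]; exact hs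
    simp only [cls, this, hz]
  obtain ⟨m, hm, em⟩ := C.exists_chase 40 a _ (hch a ha0 ha)
  obtain ⟨n, hn, en⟩ := C.exists_chase 40 b _ (hch b hb0 hb)
  refine ⟨n * m⁻¹, mul_mem hn (inv_mem hm), ?_⟩
  rw [← em, ← en, hcls]
  group

end Cfg

end H54.J4A10
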