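import Cfsg.Agent.H54.J4A10.Exist
import Cfsg.Agent.H54.J4A10.Stab
import Cfsg.Agent.H82.J4A10.Adapter

/-!
The interface used by the counting, from the coordinates.
-/

set_option autoImplicit false

open Subgroup

namespace H54.J4A10

variable {G : Type*} [Group G] {z : G} {V : Subgroup G}

/-- Every coordinate system provides the interface. -/
theorem Cfg.api (C : Cfg z V) : H82.J4A10.Api C :=
  ⟨fun _ _ => C.ael_inj, fun _ => C.mem_A0, C.ael_zero,
    ⟨C.A0_elementary, C.card_A0, C.centralizer_A0⟩, C.A0_le, fun _ => C.ael_mem_iff,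
    fun _ => C.ael_conj_z, C.classify, C.card_stab, C.stab_orbit⟩

/-- The interface exists for every elementary abelian subgroup of order `2 ^ 11`. -/
theorem exists_api [Finite G] [IsSimpleGroup G] (hG : ¬ IsMulCommutative G)
    (hJ : Cfsg.IsOfJankoFourTypeAt z) (V : Subgroup G) (hV : H82.J4A10.IsEleven V) :
    ∃ C : Cfg z V, H82.J4A10.Api C := by
  obtain ⟨C⟩ := exists_cfg hG hJ V hV.elem hV.card_V
  exact ⟨C, C.api⟩

end H54.J4A10
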