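import Cfsg.Agent.H54.J4A10.Tbl

/-!
The Sylow two-subgroup of the complement as a subgroup, with its ten-bit numbering.
-/

set_option autoImplicit false
set_option maxRecDepth 20000

open Subgroup

namespace H54.J4A10

open Cfsg.Agent.H69.J4

theorem tab_map {j i : ℕ} (hj : j < 10) (hi : i < 2 ^ j) :
    tab (2 ^ j + i) = mm (gen j) (tab i) := by
  have h := (List.all_eq_true.1 tab_step_ok) j (List.mem_range.2 hj)
  rw [beq_iff_eq] at h
  have hb : 2 ^ j + 2 ^ j ≤ 1024 := by
    rw [← two_mul, ← pow_succ']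
    exact (Nat.pow_le_pow_right (by norm_num) hj : 2 ^ (j + 1) ≤ 2 ^ 10)
  have := congrArg (fun l : List (List ℕ) => l[i]?) h
  simp [hi, tab_len, show i < 1024 by omega, show 2 ^ j + i < 1024 by omega] at this
  simpa [tab, List.getD_eq_getElem?_getD, tab_len, show i < 1024 by omega,
    show 2 ^ j + i < 1024 by omega] using this

namespace Cfg

variable {G : Type*} [Group G] {z : G} {V : Subgroup G} (C : Cfg z V)

theorem eq_of_co {v w : ℕ} (hv : v < 2048) (hw : w < 2048) (h : C.co v = C.co w) : v = w :=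
  C.co_inj v hv w hw h

theorem code_one : C.code 1 = one11 := by
  refine ext_ap11 (C.code_spec 1).1 rfl fun v hv => ?_
  rw [ap_one11 hv]
  refine C.eq_of_co ((C.code_spec 1).ap_lt' v) hv ?_
  rw [← C.code_act 1 v hv]
  simp

theorem finite_K : Finite ↥C.K := Nat.finite_of_card_ne_zero (by rw [C.card_K]; norm_num)

theorem exists_te : ∀ n ≤ 10, ∀ i < 2 ^ n, ∃ k, C.code k = tab i := by
  intro n
  induction n with
  | zero =>
    intro _ i hi
    obtain rfl : i = 0 := by simpa using hi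
    exact ⟨1, by rw [C.code_one, tab_zero]⟩
  | succ n ih =>
    intro hn i hi
    by_cases h : i < 2 ^ n
    · exact ih (by omega) i h
    obtain ⟨c, rfl⟩ : ∃ c, i = 2 ^ n + c := ⟨i - 2 ^ n, by omega⟩
    rw [pow_succ'] at hi
    obtain ⟨k, hk⟩ := ih (by omega) c (by omega)
    have hg := (List.all_eq_true.1 gen_ok) n (List.mem_range.2 (show n < 10 by omega))
    obtain ⟨g, hg⟩ := C.code_surj _ (isM_of hg)
    exact ⟨g * k, by rw [C.code_mul, hg, hk, tab_map (by omega) (by omega)]⟩

open scoped Classical in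
/-- The element of the Sylow subgroup with the given bits. -/
noncomputable def te (i : ℕ) : ↥C.K :=
  if h : ∃ k, C.code k = tab i then h.choose else 1

theorem code_te {i : ℕ} (hi : i < 1024) : C.code (C.te i) = tab i := by
  rw [te, dif_pos (C.exists_te 10 le_rfl i hi)]
  exact (C.exists_te 10 le_rfl i hi).choose_spec

theorem te_zero : C.te 0 = 1 :=
  C.code_inj (by rw [C.code_te (by norm_num), C.code_one, tab_zero])

theorem te_step {j i : ℕ} (hj : j < 10) (hi : i < 2 ^ j) :
    C.te (2 ^ j + i) = C.te (2 ^ j) * C.te i := by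
  have h : (2 : ℕ) ^ j + 2 ^ j ≤ 1024 := by
    rw [← two_mul, ← pow_succ']
    exact (Nat.pow_le_pow_right (by norm_num) hj : 2 ^ (j + 1) ≤ 2 ^ 10)
  have := Nat.two_pow_pos j
  apply C.code_inj
  rw [C.code_mul, C.code_te (by omega), C.code_te (by omega), C.code_te (by omega),
    tab_map hj hi]
  rfl

/-- The members of the series. -/
def ser (j : ℕ) : Subgroup ↥C.K := closure ((fun i => C.te (2 ^ i)) '' Set.Iio j)

theorem gen_mem {i j : ℕ} (h : i < j) : C.te (2 ^ i) ∈ C.ser j :=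
  subset_closure ⟨i, h, rfl⟩

theorem ser_mono {i j : ℕ} (h : i ≤ j) : C.ser i ≤ C.ser j :=
  closure_mono (Set.image_mono (Set.Iio_subset_Iio h))

theorem te_mem : ∀ j ≤ 10, ∀ i < 2 ^ j, C.te i ∈ C.ser j := by
  intro j
  induction j with
  | zero =>
    intro _ i hi
    obtain rfl : i = 0 := by simpa using hi
    rw [C.te_zero]; exact one_mem _
  | succ j ih =>
    intro hj i hi
    by_cases h : i < 2 ^ j
    · exact C.ser_mono (Nat.le_succ j) (ih (by omega) i h)
    obtain ⟨c, rfl⟩ : ∃ c, i = 2 ^ j + c := ⟨i - 2 ^ j, by omega⟩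
    rw [pow_succ'] at hi
    rw [C.te_step (by omega) (by omega)]
    exact mul_mem (C.gen_mem (Nat.lt_succ_self j))
      (C.ser_mono (Nat.le_succ j) (ih (by omega) c (by omega)))

theorem gen_sq {j : ℕ} (hj : j < 10) : C.te (2 ^ j) * C.te (2 ^ j) ∈ C.ser j := by
  have h := (List.all_eq_true.1 sq_ok) j (List.mem_range.2 hj)
  simp only [Bool.and_eq_true, Nat.blt_eq, beq_iff_eq] at h
  have hlt : (2 : ℕ) ^ j < 1024 := Nat.pow_lt_pow_right (by norm_num) hj
  have : C.te (2 ^ j) * C.te (2 ^ j) = C.te (sqD.getD j 0) := C.code_inj (by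
    rw [C.code_mul, C.code_te hlt, C.code_te (h.1.trans hlt)]; exact h.2)
  rw [this]
  exact C.te_mem j hj.le _ h.1

theorem gen_conj {j i : ℕ} (hj : j < 10) (hi : i < j) :
    C.te (2 ^ j) * C.te (2 ^ i) * (C.te (2 ^ j))⁻¹ ∈ C.ser j := by
  have h := (List.all_eq_true.1 ((List.all_eq_true.1 cj_ok) j (List.mem_range.2 hj))) i
    (List.mem_range.2 hi)
  simp only [Bool.and_eq_true, Nat.blt_eq, beq_iff_eq] at h
  have hlt : (2 : ℕ) ^ j < 1024 := Nat.pow_lt_pow_right (by norm_num) hj
  have hlt' : (2 : ℕ) ^ i < 1024 := Nat.pow_lt_pow_right (n := 10) (by norm_num) (by omega)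
  have : C.te (2 ^ j) * C.te (2 ^ i) = C.te ((cjD.getD j []).getD i 0) * C.te (2 ^ j) :=
    C.code_inj (by
      rw [C.code_mul, C.code_mul, C.code_te hlt, C.code_te hlt', C.code_te (h.1.trans hlt)]
      exact h.2)
  rw [this, mul_inv_cancel_right]
  exact C.te_mem j hj.le _ h.1

theorem conj_ser {j : ℕ} (hj : j < 10) {s : ↥C.K} (hs : s ∈ C.ser j) :
    (C.te (2 ^ j))⁻¹ * s * C.te (2 ^ j) ∈ C.ser j := by
  set g := C.te (2 ^ j)
  have h2 : g * g ∈ C.ser j := C.gen_sq hj
  have hc : ∀ s ∈ C.ser j, g * s * g⁻¹ ∈ C.ser j := by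
    intro s hs
    induction hs using closure_induction with
    | mem x hx =>
      obtain ⟨i, hi, rfl⟩ := hx
      exact C.gen_conj hj hi
    | one => simp
    | mul a b _ _ ha hb =>
      have := mul_mem ha hb
      rwa [show g * a * g⁻¹ * (g * b * g⁻¹) = g * (a * b) * g⁻¹ by group] at this
    | inv a _ ha =>
      have := inv_mem ha
      rwa [show (g * a * g⁻¹)⁻¹ = g * a⁻¹ * g⁻¹ by group] at this
  have := mul_mem (mul_mem (inv_mem h2) (hc s hs)) h2
  rwa [show (g * g)⁻¹ * (g * s * g⁻¹) * (g * g) = g⁻¹ * s * g by group] at this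

theorem exists_of_mem : ∀ j ≤ 10, ∀ s ∈ C.ser j, ∃ i < 2 ^ j, s = C.te i := by
  intro j
  induction j with
  | zero =>
    intro _ s hs
    refine ⟨0, by norm_num, ?_⟩
    rw [C.te_zero]
    simpa [ser] using hs
  | succ j ih =>
    intro hj s hs
    haveI := C.finite_K
    set g := C.te (2 ^ j) with hg
    have hpre : ∀ i < 2 ^ (j + 1), C.te i ∈ C.ser j ∨ g⁻¹ * C.te i ∈ C.ser j := by
      intro i hi
      by_cases h : i < 2 ^ j
      · exact Or.inl (C.te_mem j (by omega) i h)
      obtain ⟨c, rfl⟩ : ∃ c, i = 2 ^ j + c := ⟨i - 2 ^ j, by omega⟩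
      rw [pow_succ'] at hi
      refine Or.inr ?_
      rw [C.te_step (by omega) (by omega), inv_mul_cancel_left]
      exact C.te_mem j (by omega) c (by omega)
    have hmem : ∀ s ∈ C.ser (j + 1), s ∈ C.ser j ∨ g⁻¹ * s ∈ C.ser j := by
      intro s hs
      have hgg := C.gen_sq (show j < 10 by omega)
      induction hs using closure_induction with
      | mem x hx =>
        obtain ⟨i, hi, rfl⟩ := hx
        exact hpre _ (Nat.pow_lt_pow_right (by norm_num) hi)
      | one => exact Or.inl (one_mem _)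
      | mul a b _ _ ha hb =>
        rcases ha with ha | ha <;> rcases hb with hb | hb
        · exact Or.inl (mul_mem ha hb)
        · refine Or.inr ?_
          have := mul_mem (C.conj_ser (show j < 10 by omega) ha) hb
          rwa [← hg, show g⁻¹ * a * g * (g⁻¹ * b) = g⁻¹ * (a * b) by group] at this
        · refine Or.inr ?_
          have := mul_mem ha hb
          rwa [show g⁻¹ * a * b = g⁻¹ * (a * b) by group] at this
        · refine Or.inl ?_
          have := mul_mem (mul_mem hgg (C.conj_ser (show j < 10 by omega) ha)) hb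
          rwa [← hg, show g * g * (g⁻¹ * (g⁻¹ * a) * g) * (g⁻¹ * b) = a * b by group] at this
      | inv a _ ha =>
        rcases ha with ha | ha
        · exact Or.inl (inv_mem ha)
        · refine Or.inr ?_
          have := mul_mem (C.conj_ser (show j < 10 by omega) (inv_mem ha)) (inv_mem hgg)
          rwa [← hg, show g⁻¹ * (g⁻¹ * a)⁻¹ * g * (g * g)⁻¹ = g⁻¹ * a⁻¹ by group] at this
    rcases hmem s hs with h | h
    · obtain ⟨i, hi, e⟩ := ih (by omega) _ h
      exact ⟨i, by rw [pow_succ']; omega, e⟩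
    · obtain ⟨i, hi, e⟩ := ih (by omega) _ h
      refine ⟨2 ^ j + i, by rw [pow_succ']; omega, ?_⟩
      rw [C.te_step (by omega) hi, ← e, hg, mul_inv_cancel_left]

theorem gen_not_mem {j : ℕ} (hj : j < 10) : C.te (2 ^ j) ∉ C.ser j := by
  intro h
  obtain ⟨i, hi, e⟩ := C.exists_of_mem j hj.le _ h
  have hlt : (2 : ℕ) ^ j < 1024 := Nat.pow_lt_pow_right (by norm_num) hj
  have he := congrArg C.code e
  rw [C.code_te hlt, C.code_te (hi.trans hlt)] at he
  have hn := (List.all_eq_true.1 gen_new) j (List.mem_range.2 hj)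
  simp only [Bool.not_eq_true', List.contains_eq_mem, decide_eq_false_iff_not] at hn
  refine hn (List.mem_map.2 ⟨tabD.getD i 0, ?_, he.symm⟩)
  rw [List.getD_eq_getElem?_getD, List.getElem?_eq_getElem (by rw [tab_len]; omega), Option.getD_some,
    List.mem_take_iff_getElem]
  exact ⟨i, by rw [tab_len]; omega, rfl⟩

theorem mem_iff_lt {j i : ℕ} (hj : j < 10) (hi : i < 2 ^ (j + 1)) :
    C.te i ∈ C.ser j ↔ i < 2 ^ j := by
  refine ⟨fun h => ?_, C.te_mem j hj.le i⟩
  by_contra hge
  obtain ⟨c, rfl⟩ : ∃ c, i = 2 ^ j + c := ⟨i - 2 ^ j, by omega⟩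
  rw [pow_succ'] at hi
  rw [C.te_step hj (by omega)] at h
  exact C.gen_not_mem hj ((mul_mem_cancel_right (C.te_mem j hj.le c (by omega))).1 h)

theorem te_inj : ∀ j ≤ 10, ∀ a < 2 ^ j, ∀ b < 2 ^ j, C.te a = C.te b → a = b := by
  intro j
  induction j with
  | zero => intro _ a ha b hb _; simp at ha hb; omega
  | succ j ih =>
    intro hj a ha b hb e
    have hiff := (C.mem_iff_lt (show j < 10 by omega) ha).symm.trans
      (e ▸ C.mem_iff_lt (show j < 10 by omega) hb)
    by_cases h : a < 2 ^ j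
    · exact ih (by omega) a h b (hiff.1 h) e
    obtain ⟨c, rfl⟩ : ∃ c, a = 2 ^ j + c := ⟨a - 2 ^ j, by omega⟩
    obtain ⟨d, rfl⟩ : ∃ d, b = 2 ^ j + d := ⟨b - 2 ^ j, by
      have : ¬ b < 2 ^ j := fun hh => h (hiff.2 hh)
      omega⟩
    rw [pow_succ'] at ha hb
    rw [C.te_step (by omega) (by omega), C.te_step (by omega) (by omega)] at e
    rw [ih (by omega) c (by omega) d (by omega) (mul_left_cancel e)]

theorem eq_of_te {a b : ℕ} (ha : a < 1024) (hb : b < 1024) (e : C.te a = C.te b) : a = b :=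
  C.te_inj 10 le_rfl a ha b hb e

theorem card_ser : Nat.card ↥(C.ser 10) = 1024 := by
  refine (Nat.card_eq_of_bijective
    (fun i : Fin 1024 => (⟨C.te i, C.te_mem 10 le_rfl i i.2⟩ : ↥(C.ser 10)))
    ⟨fun a b e => Fin.ext (C.eq_of_te a.2 b.2 (congrArg Subtype.val e)), fun s => ?_⟩).symm.trans
    (Nat.card_fin 1024)
  obtain ⟨i, hi, e⟩ := C.exists_of_mem 10 le_rfl s s.2
  exact ⟨⟨i, hi⟩, Subtype.ext e.symm⟩

theorem qel_eq {i : ℕ} (hi : i < 16) : C.qel i = (C.te i : G) := by
  have hq := (List.all_eq_true.1 tab_q) i (List.mem_range.2 hi)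
  rw [beq_iff_eq] at hq
  have hex : ∃ k : ↥C.K, C.code k = qMat i := ⟨C.te i, by rw [C.code_te (by omega), hq]⟩
  rw [qel, dif_pos hex, C.code_inj (hex.choose_spec.trans (hq.trans (C.code_te (by omega)).symm))]

end Cfg

end H54.J4A10
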