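import Cfsg.Agent.H19.J4V.PatCert

/-!
# Coordinates for elementary abelian subgroups of order two to the ten in groups of `J₄` type

Inside `V : K` (`V` of order `2 ^ 11`, `K` acting as `M₂₄` on the pairs of the points `ptsN`) the
standard subgroup is `W × Q₀`: `Q₀` is the pointwise stabiliser in `K` of the octad of the first
eight points and `W` is spanned by the pairs inside that octad. An element is coded by `a < 1024`,
the low six bits for `W` and the high four bits for `Q₀`.
-/

set_option autoImplicit false

namespace H54.J4A10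

open Cfsg.Agent.H69.J4

/-- A basis of `W`, in the coordinates of `V`. -/
def wBasis : List ℕ := [2, 16, 19, 132, 136, 147]

/-- The element of `W` with the given six bits, in the coordinates of `V`. -/
def wv (a : ℕ) : ℕ := ap wBasis a

/-- The matrices on `V` of the sixteen elements of `Q₀`, by their four bits. -/
def qMats : List (List ℕ) := [
  [1, 2, 4, 8, 16, 32, 64, 128, 256, 512, 1024],
  [1, 2, 4, 8, 16, 32, 65, 128, 270, 573, 1077],
  [1, 2, 4, 8, 16, 33, 64, 128, 266, 603, 1103],
  [1, 2, 4, 8, 16, 33, 65, 128, 260, 615, 1147],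
  [1, 2, 4, 8, 16, 46, 74, 128, 256, 897, 1280],
  [1, 2, 4, 8, 16, 46, 75, 128, 270, 946, 1339],
  [1, 2, 4, 8, 16, 47, 74, 128, 266, 976, 1349],
  [1, 2, 4, 8, 16, 47, 75, 128, 260, 994, 1407],
  [1, 2, 4, 8, 16, 40, 84, 128, 385, 1152, 640],
  [1, 2, 4, 8, 16, 40, 85, 128, 399, 1205, 701],
  [1, 2, 4, 8, 16, 41, 84, 128, 395, 1231, 731],
  [1, 2, 4, 8, 16, 41, 85, 128, 389, 1275, 743],
  [1, 2, 4, 8, 16, 38, 94, 128, 385, 1408, 769],
  [1, 2, 4, 8, 16, 38, 95, 128, 399, 1467, 818],
  [1, 2, 4, 8, 16, 39, 94, 128, 395, 1477, 848],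
  [1, 2, 4, 8, 16, 39, 95, 128, 389, 1535, 866]]

/-- The matrix of an element of `Q₀`. -/
def qMat (i : ℕ) : List ℕ := qMats.getD i []

/-- For every element of `Q₀`, the six-bit codes of the cosets in the class of `z`. -/
def zRows : List ℕ := [1692930046964590720, 6794982966952065, 10205667331670145, 18603737345949825, 297255201990017025, 1154056338087624705, 81073865337872385, 145259231000397825, 148689190882648065, 292736725095563265, 74379900575811585, 1155175778390933505, 90107211415568385, 288828785631954945, 1153489402501013505, 162134122339794945]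

/-- The codes of the elements of the standard subgroup in the class of `z`. -/
def zCode (a : ℕ) : Bool := (zRows.getD (a / 64) 0).testBit (a % 64)

/-- Membership among the labels of pairs. -/
def isLab (v : ℕ) : Bool := (List.range 24).any fun p => (List.range p).any fun q =>
  Nat.beq (H19.J4V.labT p q) v

/-- A matrix of a linear bijection of `V` permuting the pair labels. -/
def IsM (l : List ℕ) : Prop :=
  l.length = 11 ∧ (∀ a ∈ l, a < 2048) ∧ (∀ a < 2048, ∀ b < 2048, ap l a = ap l b → a = b) ∧
    ∀ p < 24, ∀ q < 24, p ≠ q → ∃ r s, r < 24 ∧ s < 24 ∧ r ≠ s ∧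
      ap l (H19.J4V.labT p q) = H19.J4V.labT r s

/-- An elementary abelian `V` of order `2 ^ 11` with its split normalizer, in coordinates. -/
structure Cfg {G : Type*} [Group G] (z : G) (V : Subgroup G) where
  co : ℕ → G
  co_mem : ∀ v < 2048, co v ∈ V
  co_xor : ∀ v < 2048, ∀ w < 2048, co (v ^^^ w) = co v * co w
  co_inj : ∀ v < 2048, ∀ w < 2048, co v = co w → v = w
  co_surj : ∀ g ∈ V, ∃ v < 2048, co v = g
  conj_z : ∀ v < 2048, v ≠ 0 → (IsConj z (co v) ↔ isLab v = false)
  cent : Subgroup.centralizer (V : Set G) ≤ V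
  cent_lab : ∀ v < 2048, isLab v = true →
    Subgroup.centralizer ({co v} : Set G) ≤ Subgroup.normalizer (V : Set G)
  K : Subgroup G
  K_le : K ≤ Subgroup.normalizer (V : Set G)
  K_inf : K ⊓ V = ⊥
  K_sup : K ⊔ V = Subgroup.normalizer (V : Set G)
  card_K : Nat.card K = 244823040
  code : ↥K → List ℕ
  code_spec : ∀ k, IsM (code k)
  code_act : ∀ (k : ↥K) (v : ℕ), v < 2048 → (k : G) * co v * (k : G)⁻¹ = co (ap (code k) v)
  code_mul : ∀ j k : ↥K, code (j * k) = mm (code j) (code k)
  code_inj : Function.Injective code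
  code_surj : ∀ l, IsM l → ∃ k, code k = l

namespace Cfg

variable {G : Type*} [Group G] {z : G} {V : Subgroup G} (C : Cfg z V)

open scoped Classical in
/-- The element of `Q₀` with the given four bits. -/
noncomputable def qel (i : ℕ) : G :=
  if h : ∃ k : ↥C.K, C.code k = qMat i then (h.choose : G) else 1

/-- The element of the standard subgroup with the given code. -/
noncomputable def ael (a : ℕ) : G := C.co (wv (a % 64)) * C.qel (a / 64)

/-- The standard subgroup of order `2 ^ 10`. -/
noncomputable def A0 : Subgroup G := Subgroup.closure (C.ael '' Set.Iio 1024)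

end Cfg

end H54.J4A10
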