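import Cfsg.Agent.H54.J4A10.Tbl

/-!
The elementary abelian subgroups of the Sylow two-subgroup: only one has enough fixed vectors.
-/

set_option autoImplicit false
set_option maxRecDepth 40000

namespace H54.J4A10

/-- Whether a number has exactly the given number of bits. -/
def popIs : ℕ → ℕ → Bool
  | 0, F => Nat.beq F 0
  | k + 1, F => !Nat.beq F 0 && popIs k (F &&& (F - 1))

/-- An entry: position, code, commuting involutions, fixed vectors. -/
def entries : List (ℕ × ℕ × ℕ × ℕ) := (List.range 191).zip (invD.zip (comD.zip fixD))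

/-- The entries whose top bit is the given one. -/
def level (l : ℕ) : List (ℕ × ℕ × ℕ × ℕ) :=
  (entries.take (levD.getD (l + 1) 0)).drop (levD.getD l 0)

/-- Run through the echelon bases. -/
def dfs : ℕ → ℕ → List ℕ → ℕ → ℕ → ℕ → Bool
  | 0, _, els, _, _, F => !popIs (2 ^ (10 - els.length)) F || els == [8, 4, 2, 1]
  | fuel + 1, l, els, piv, cand, F =>
    dfs fuel (l + 1) els piv cand F && (level l).all fun a =>
      !cand.testBit a.1 || !Nat.beq (a.2.1 &&& piv) 0 ||
        dfs fuel (l + 1) (a.2.1 :: els) (piv ||| 2 ^ l) (cand &&& a.2.2.1) (F &&& a.2.2.2)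

theorem level_mem : ((List.range 10).all fun l => entries.all fun a =>
    !(Nat.ble (2 ^ l) a.2.1 && Nat.blt a.2.1 (2 ^ (l + 1))) || (level l).any fun b => Nat.beq b.1 a.1) =
      true := by decide +kernel

theorem dfs_ok : dfs 10 0 [] 0 (2 ^ 191 - 1) (2 ^ 2048 - 1) = true := by decide +kernel

end H54.J4A10
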