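import Cfsg.Agent.H54.J4A10.Gam
import Cfsg.Agent.H19.J4V.Split
import Cfsg.Agent.H95.J4T.Labels
import Cfsg.Agent.H95.J4T.Assemble

/-!
Coordinates exist for every elementary abelian subgroup of order `2 ^ 11`.
-/

set_option autoImplicit false
set_option maxRecDepth 20000
set_option linter.style.haveILetI false

open Subgroup Cfsg

namespace H54.J4A10

open Cfsg.Agent.H69.J4 H19.J4V H73.FiM24

variable {G : Type*} [Group G] [Finite G] {z : G}

/-- The labels of the elements outside the class of `z` are the standard ones. -/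
theorem exists_phi [IsSimpleGroup G] {P : Subgroup G} (hG : ¬ IsMulCommutative G)
    (hJ : Cfsg.IsOfJankoFourTypeWith z P) (V : Subgroup G) (hV : Cfsg.IsElementaryAbelian 2 V)
    (hcard : Nat.card V = 2 ^ 11) :
    ∃ φ : ↥V → (Fin 11 → ZMod 2), (∀ a b, φ (a * b) = φ a + φ b) ∧ Function.Bijective φ ∧
      ∀ a : ↥V, ((a : G) ≠ 1 ∧ ¬ IsConj z (a : G)) ↔ ∃ p q, p ≠ q ∧ φ a = labels.t p q := by
  obtain ⟨N, e, o⟩ := outer_of_type hJ
  obtain ⟨R⟩ := exists_real o (data_of_type hJ)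
  obtain ⟨g, rfl⟩ := exists_conj_eq (R := R) hJ o V hV hcard
  obtain ⟨F, hS, hM⟩ := exists_pattern (R := R) hG o
  set f := (MulAut.conj g).toMonoidHom
  let ε := (R.V0.equivMapOfInjective f (MulAut.conj g).injective).symm
  refine ⟨fun a => vbits (H19.J4V.co F (ε a)), fun a b => by
    show vbits (H19.J4V.co F (ε (a * b))) = _
    rw [map_mul, co_mul, vbits_xor], (vbits_co_bij F).comp ε.bijective, fun a => ?_⟩
  show _ ↔ ∃ p q, p ≠ q ∧ vbits (H19.J4V.co F (ε a)) = labels.t p q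
  rw [← labels_V0 F hM (ε a)]
  have he : (a : G) = g * (ε a : G) * g⁻¹ := (congrArg Subtype.val
    ((R.V0.equivMapOfInjective f (MulAut.conj g).injective).apply_symm_apply a)).symm
  rw [he]
  exact and_congr (not_congr conj_eq_one_iff) (not_congr
    ⟨fun h => h.trans (isConj_iff.2 ⟨g⁻¹, by group⟩), fun h => h.trans (isConj_iff.2 ⟨g, rfl⟩)⟩)

/-- The additive permutations of the vectors that permute the labels. -/
def labGroup : Subgroup (Equiv.Perm (Fin 11 → ZMod 2)) where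
  carrier := {e | (∀ u w, e (u + w) = e u + e w) ∧
    e '' {w | ∃ p q, p ≠ q ∧ labels.t p q = w} = {w | ∃ p q, p ≠ q ∧ labels.t p q = w}}
  one_mem' := ⟨fun u w => rfl, by simp⟩
  mul_mem' := by
    rintro a b ⟨ha, ha'⟩ ⟨hb, hb'⟩
    refine ⟨fun u w => ?_, ?_⟩
    · simp only [Equiv.Perm.mul_apply, hb, ha]
    · rw [Equiv.Perm.coe_mul, Set.image_comp, hb', ha']
  inv_mem' := by
    rintro a ⟨ha, ha'⟩
    refine ⟨fun u w => a.injective ?_, ?_⟩
    · simp [ha]
    · conv_lhs => rw [← ha']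
      exact a.symm_image_image _

theorem card_labGroup_le : Nat.card ↥labGroup ≤ 244823040 := by
  let lin : ↥labGroup → (Fin 11 → ZMod 2) →+ (Fin 11 → ZMod 2) := fun e =>
    AddMonoidHom.mk' (fun w => (e : Equiv.Perm (Fin 11 → ZMod 2)) w) e.2.1
  obtain ⟨act, hact, hker⟩ := H38.FiM24.exists_act labels lin (fun _ => rfl) (fun _ _ _ => rfl)
    fun e p q hpq => by
      obtain ⟨r, s, hrs, h⟩ := e.2.2.le ⟨_, ⟨p, q, hpq, rfl⟩, rfl⟩
      exact ⟨r, s, hrs, h.symm⟩
  obtain ⟨π, -, -, hπ⟩ := labels.exists_hom act lin hact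
  have hinj : Function.Injective π := by
    rw [← MonoidHom.ker_eq_bot_iff, hπ, eq_bot_iff]
    intro e he
    exact mem_bot.2 (Subtype.ext (Equiv.ext fun w => (hker e).1 he w))
  rw [← H90.natCard_M24]
  exact Nat.card_le_card_of_injective π hinj

theorem labT_of_isLab {v : ℕ} (h : isLab v = true) :
    ∃ p q : Fin 24, p ≠ q ∧ labT p q = v := by
  obtain ⟨p, q, hq, hp, e⟩ := isLab_iff.1 h
  exact ⟨⟨p, hp⟩, ⟨q, by omega⟩, Fin.ne_of_val_ne (by simp; omega), e⟩

theorem isLab_labT {p q : Fin 24} (h : p ≠ q) : isLab (labT p q) = true :=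
  isLab_of p.2 q.2 fun e => h (Fin.ext e)

theorem isM_perm {l : List ℕ} (h : IsM l) :
    ∃ e : ↥labGroup, ∀ w, (e : Equiv.Perm (Fin 11 → ZMod 2)) w = vbits (ap l (unv w)) := by
  have hinj : Function.Injective fun w : Fin 11 → ZMod 2 => vbits (ap l (unv w)) := fun u w e => by
    have := h.2.2.1 _ (unv_lt u) _ (unv_lt w) (vbits_inj (h.ap_lt' _) (h.ap_lt' _) e)
    rw [← vbits_unv u, this, vbits_unv]
  refine ⟨⟨Equiv.ofBijective _ hinj.bijective_of_finite, fun u w => ?_, ?_⟩, fun w => rfl⟩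
  · show vbits (ap l (unv (u + w))) = _
    rw [unv_add, ap_xor, vbits_xor]
    rfl
  · refine Set.eq_of_subset_of_ncard_le ?_ ?_ (Set.toFinite _)
    · rintro _ ⟨_, ⟨p, q, hpq, rfl⟩, rfl⟩
      obtain ⟨r, s, hr, hs, hne, e⟩ := h.2.2.2 p p.2 q q.2 fun e => hpq (Fin.ext e)
      refine ⟨⟨r, hr⟩, ⟨s, hs⟩, fun e => hne (congrArg Fin.val e), ?_⟩
      show vbits (labT r s) = vbits (ap l (unv (vbits (labT p q))))
      rw [unv_vbits (labT_lt p q), e]
    · rw [Set.ncard_image_of_injective _ (Equiv.injective _)]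

theorem card_isM_le : Finite {l : List ℕ // IsM l} ∧ Nat.card {l : List ℕ // IsM l} ≤ 244823040 := by
  choose ι hι using fun l : {l : List ℕ // IsM l} => isM_perm l.2
  have hinj : Function.Injective ι := fun a b e => Subtype.ext (ext_ap11 a.2.1 b.2.1 fun v hv => by
    have h1 := hι a (vbits v)
    have h2 := hι b (vbits v)
    rw [e, h2, unv_vbits hv] at h1
    exact vbits_inj (a.2.ap_lt' v) (b.2.ap_lt' v) h1.symm)
  exact ⟨Finite.of_injective ι hinj,
    (Nat.card_le_card_of_injective ι hinj).trans card_labGroup_le⟩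

/-- Coordinates exist. -/
theorem exists_cfg [IsSimpleGroup G] (hG : ¬ IsMulCommutative G) (hJ : Cfsg.IsOfJankoFourTypeAt z)
    (V : Subgroup G) (hV : Cfsg.IsElementaryAbelian 2 V) (hcard : Nat.card V = 2 ^ 11) :
    Nonempty (Cfg z V) := by
  classical
  obtain ⟨P, hP⟩ := id hJ
  have hz1 : z ≠ 1 := fun h => by simpa [h] using hP.1
  obtain ⟨φ, hφ, hbij, hT⟩ := exists_phi hG hP V hV hcard
  have hcent := (H19.J4V.exists_labels hG hP V hV hcard).1
  obtain ⟨K, hKle, hKinf, hKsup, ⟨κ⟩⟩ := H19.J4V.exists_complement hG hP V hV hcard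
  obtain ⟨F, -, -⟩ := H95.J4T.frame_of_labels hV hcard hz1 hcent labels φ hφ hbij hT
  have hcardK : Nat.card ↥K = 244823040 := by rw [Nat.card_congr κ.toEquiv, H90.natCard_M24]
  let ψ := Equiv.ofBijective φ hbij
  let c : ℕ → ↥V := fun v => ψ.symm (vbits v)
  let d : ↥V → ℕ := fun u => unv (φ u)
  have hφc : ∀ v, φ (c v) = vbits v := fun v => ψ.apply_symm_apply _
  have hcx : ∀ v w, c (v ^^^ w) = c v * c w := fun v w =>
    hbij.1 (by rw [hφ, hφc, hφc, hφc, vbits_xor])
  have hdx : ∀ u w, d (u * w) = d u ^^^ d w := fun u w => by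
    show unv (φ (u * w)) = _
    rw [hφ, unv_add]
  have hdc : ∀ v, v < 2048 → d (c v) = v := fun v hv => by
    show unv (φ (c v)) = v
    rw [hφc, unv_vbits hv]
  have hcd : ∀ u, c (d u) = u := fun u => hbij.1 (by rw [hφc, vbits_unv])
  have hlab : ∀ v, v < 2048 → (((c v : G) ≠ 1 ∧ ¬ IsConj z (c v : G)) ↔ isLab v = true) := by
    intro v hv
    rw [hT, hφc]
    exact ⟨fun ⟨p, q, hpq, e⟩ => by rw [vbits_inj hv (labT_lt p q) e]; exact isLab_labT hpq,
      fun h => by obtain ⟨p, q, hpq, rfl⟩ := labT_of_isLab h; exact ⟨p, q, hpq, rfl⟩⟩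
  have hne : ∀ v, v < 2048 → v ≠ 0 → (c v : G) ≠ 1 := fun v hv h0 e => by
    have h1 : c v = c v * c v := by rw [show c v = 1 from Subtype.ext e, one_mul]
    have h2 := congrArg d h1
    rw [hdx, hdc v hv, Nat.xor_self] at h2
    exact h0 h2
  let cj : ↥K → ℕ → ↥V := fun k v =>
    ⟨(k : G) * (c v : G) * (k : G)⁻¹, (mem_normalizer_iff.1 (hKle k.2) _).1 (c v).2⟩
  have hlkx : ∀ k a b, d (cj k (a ^^^ b)) = d (cj k a) ^^^ d (cj k b) := fun k a b => by
    rw [← hdx]
    refine congrArg d (Subtype.ext ?_)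
    simp only [cj, coe_mul, hcx]
    group
  have hlk0 : ∀ k, d (cj k 0) = 0 := fun k => by
    have h := hlkx k 0 0
    rwa [Nat.xor_self, Nat.xor_self] at h
  let code : ↥K → List ℕ := fun k => one11.map fun v => d (cj k v)
  have hap : ∀ k v, v < 2048 → ap (code k) v = d (cj k v) := fun k v hv => by
    show ap (one11.map _) v = _
    rw [ap_map (hlkx k) (hlk0 k), ap_one11 hv]
  have hact : ∀ (k : ↥K) (v : ℕ), v < 2048 →
      (k : G) * (c v : G) * (k : G)⁻¹ = (c (ap (code k) v) : G) := fun k v hv => by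
    rw [hap k v hv, hcd]
  have hlen : ∀ k, (code k).length = 11 := fun k => by
    show (one11.map _).length = 11
    rw [List.length_map]; rfl
  have hbd : ∀ k, ∀ a ∈ code k, a < 2048 := fun k a ha => by
    obtain ⟨v, -, rfl⟩ := List.mem_map.1 ha
    exact unv_lt _
  have hspec : ∀ k, IsM (code k) := fun k => by
    refine ⟨hlen k, hbd k, fun a ha b hb e => ?_, fun p hp q hq hpq => ?_⟩
    · have h := hact k a ha
      rw [e, ← hact k b hb] at h
      rw [← hdc a ha, Subtype.ext (mul_left_cancel (mul_right_cancel h)), hdc b hb]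
    · have hv : labT p q < 2048 := labT_lt ⟨p, hp⟩ ⟨q, hq⟩
      obtain ⟨h1, h2⟩ := (hlab _ hv).2 (isLab_of hp hq hpq)
      have h3 : ((c (ap (code k) (labT p q)) : G) ≠ 1 ∧
          ¬ IsConj z (c (ap (code k) (labT p q)) : G)) := by
        rw [← hact k _ hv]
        exact ⟨fun e => h1 (conj_eq_one_iff.1 e),
          fun e => h2 (e.trans (isConj_iff.2 ⟨(k : G)⁻¹, by group⟩))⟩
      obtain ⟨r, s, hrs, e⟩ := labT_of_isLab ((hlab _ (ap_lt (n := 11) (hbd k) _)).1 h3)
      exact ⟨r, s, r.2, s.2, fun e => hrs (Fin.ext e), e.symm⟩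
  have hmul : ∀ j k : ↥K, code (j * k) = mm (code j) (code k) := fun j k => by
    refine ext_ap11 (hlen _) (by rw [mm_length, hlen]) fun v hv => ?_
    rw [ap_mm, hap k v hv, hap (j * k) v hv, hap j _ (unv_lt _)]
    refine congrArg d (Subtype.ext ?_)
    show ((j * k : ↥K) : G) * (c v : G) * ((j * k : ↥K) : G)⁻¹ =
      (j : G) * (c (d (cj k v)) : G) * (j : G)⁻¹
    rw [hcd]
    simp only [cj, coe_mul]
    group
  have hinj : Function.Injective code := fun j k e => by
    have hcm : (j : G)⁻¹ * k ∈ centralizer (V : Set G) := mem_centralizer_iff.2 fun u hu => by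
      have hd : d ⟨u, hu⟩ < 2048 := unv_lt _
      have h := hact j _ hd
      rw [e, ← hact k _ hd, hcd] at h
      calc u * ((j : G)⁻¹ * k) = (j : G)⁻¹ * ((j : G) * u * (j : G)⁻¹) * k := by group
        _ = (j : G)⁻¹ * k * u := by rw [h]; group
    have h2 : (j : G)⁻¹ * k ∈ K ⊓ V := ⟨K.mul_mem (K.inv_mem j.2) k.2, hcent hcm⟩
    rw [hKinf, mem_bot, inv_mul_eq_one] at h2
    exact Subtype.ext h2
  obtain ⟨hfin, hle⟩ := card_isM_le
  have hsurj : ∀ l, IsM l → ∃ k, code k = l := by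
    haveI := hfin
    have hb := Function.Injective.bijective_of_nat_card_le
      (f := fun k : ↥K => (⟨code k, hspec k⟩ : {l : List ℕ // IsM l}))
      (fun a b e => hinj (congrArg Subtype.val e)) (by rw [hcardK]; exact hle)
    intro l hl
    obtain ⟨k, hk⟩ := hb.2 ⟨l, hl⟩
    exact ⟨k, congrArg Subtype.val hk⟩
  exact ⟨{
    co := fun v => (c v : G)
    co_mem := fun v _ => (c v).2
    co_xor := fun v _ w _ => by rw [hcx]; rfl
    co_inj := fun v hv w hw e => by rw [← hdc v hv, Subtype.ext e, hdc w hw]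
    co_surj := fun g hg => ⟨d ⟨g, hg⟩, unv_lt _, by rw [hcd]⟩
    conj_z := fun v hv h0 => by
      rw [← not_iff_not, Bool.not_eq_false, ← hlab v hv, and_iff_right (hne v hv h0)]
    cent := hcent
    cent_lab := fun v hv h => by
      obtain ⟨h1, h2⟩ := (hlab v hv).2 h
      obtain ⟨a, b, hab, e⟩ := F.pair _ (c v).2 h1 h2
      rw [e]
      exact H95.J4T.centralizer_le (H95.J4T.setup hG hJ F) hab
    K := K
    K_le := hKle
    K_inf := hKinf
    K_sup := hKsup
    card_K := hcardK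
    code := code
    code_spec := hspec
    code_act := hact
    code_mul := hmul
    code_inj := hinj
    code_surj := hsurj }⟩

end H54.J4A10
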