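import Cfsg.Agent.H54.J4A10.Std
import Cfsg.Agent.H19.J4V.Mathieu
import Cfsg.Agent.H38.FiM24.Act

/-!
The complement as the automorphism group of the Steiner system of the labels: the stabiliser of the
octad of the first eight points.
-/

set_option autoImplicit false
set_option maxRecDepth 20000

open Subgroup Cfsg
open scoped Pointwise

namespace H54.J4A10

open Cfsg.Agent.H69.J4 H19.J4V H73.FiM24

theorem vbits_bij : Function.Bijective fun v : Fin 2048 => vbits v := by
  rw [Fintype.bijective_iff_injective_and_card]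
  exact ⟨fun a b e => Fin.ext (vbits_inj a.2 b.2 e), by simp⟩

/-- The number of a vector. -/
noncomputable def unv (w : Fin 11 → ZMod 2) : ℕ :=
  ((Equiv.ofBijective _ vbits_bij).symm w : Fin 2048)

theorem unv_lt (w : Fin 11 → ZMod 2) : unv w < 2048 := Fin.isLt _

theorem vbits_unv (w : Fin 11 → ZMod 2) : vbits (unv w) = w :=
  (Equiv.ofBijective _ vbits_bij).apply_symm_apply w

theorem unv_vbits {v : ℕ} (hv : v < 2048) : unv (vbits v) = v :=
  vbits_inj (unv_lt _) hv (vbits_unv _)

theorem unv_add (u w : Fin 11 → ZMod 2) : unv (u + w) = unv u ^^^ unv w := by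
  refine vbits_inj (unv_lt _) (Nat.xor_lt_two_pow (n := 11) (unv_lt _) (unv_lt _)) ?_
  rw [vbits_xor, vbits_unv, vbits_unv, vbits_unv]

/-- The first eight points. -/
def oct8 : Finset (Fin 24) := Finset.univ.filter fun i => (i : ℕ) < 8

theorem oct8_card : oct8.card = 8 := by decide +kernel

theorem oct8_val : labels.val 0 oct8 = 0 := by decide +kernel

theorem lab_oct : ((List.range 24).all fun r => (List.range 24).all fun s =>
    (bif Nat.blt r 8 && Nat.blt s 8 then wMask.testBit (labT r s)
    else Nat.beq r s || !wMask.testBit (labT r s))) = true := by decide +kernel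

theorem wb_pts : ((List.range 6).all fun j => (List.range 8).any fun i =>
    Nat.beq (wBasis.getD j 0) (labT i 0)) = true := by decide +kernel

theorem wMask_iff {v : ℕ} (hv : v < 2048) : wMask.testBit v = true ↔ ∃ a, a < 64 ∧ wv a = v := by
  have h := (List.all_eq_true.1 wMask_ok) v (List.mem_range.2 hv)
  rw [beq_iff_eq] at h
  rw [h, List.any_eq_true]
  exact ⟨fun ⟨a, ha, e⟩ => ⟨a, List.mem_range.1 ha, Nat.eq_of_beq_eq_true e⟩,
    fun ⟨a, ha, e⟩ => ⟨a, List.mem_range.2 ha, by rw [e]; exact Nat.beq_refl _⟩⟩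

namespace Cfg

variable {G : Type*} [Group G] {z : G} {V : Subgroup G} (C : Cfg z V)

/-- The matrix of an element of the complement leaves `W` invariant. -/
def FixW (k : ↥C.K) : Prop := ∀ a, a < 64 → ∃ b, b < 64 ∧ ap (C.code k) (wv a) = wv b

theorem exists_points :
    ∃ act : ↥C.K →* Equiv.Perm (Fin 24),
      (∀ k (p q : Fin 24), ap (C.code k) (labT p q) = labT (act k p) (act k q)) ∧
      Function.Injective act ∧
      ∀ k, act k ∈ setSystemAut (labels.blocks 0) := by
  let lin : ↥C.K → (Fin 11 → ZMod 2) →+ (Fin 11 → ZMod 2) := fun k =>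
    AddMonoidHom.mk' (fun w => vbits (ap (C.code k) (unv w))) fun u w => by
      rw [unv_add, ap_xor, vbits_xor]
  have hlin : ∀ k w, lin k w = vbits (ap (C.code k) (unv w)) := fun _ _ => rfl
  have h1 : ∀ w, lin 1 w = w := fun w => by
    rw [hlin, C.code_one, ap_one11 (unv_lt w), vbits_unv]
  have hmul : ∀ j k w, lin (j * k) w = lin j (lin k w) := fun j k w => by
    rw [hlin, hlin, hlin, unv_vbits ((C.code_spec k).ap_lt' _), C.code_mul, ap_mm]
  have hinv : ∀ k (p q : Fin 24), p ≠ q →
      ∃ r s, r ≠ s ∧ lin k (labels.t p q) = labels.t r s := by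
    intro k p q hpq
    obtain ⟨r, s, hr, hs, hne, e⟩ := (C.code_spec k).2.2.2 p p.2 q q.2 (fun e => hpq (Fin.ext e))
    refine ⟨⟨r, hr⟩, ⟨s, hs⟩, fun e => hne (congrArg Fin.val e), ?_⟩
    show vbits (ap (C.code k) (unv (vbits (labT p q)))) = vbits (labT r s)
    rw [unv_vbits (labT_lt p q), e]
  obtain ⟨act, hact, hker⟩ := H38.FiM24.exists_act labels lin h1 hmul hinv
  refine ⟨act, fun k p q => ?_, (injective_iff_map_eq_one act).2 fun k hk => ?_, fun k => ?_⟩
  · have h := hact k p q
    have h' : vbits (ap (C.code k) (unv (vbits (labT p q)))) = vbits (labT (act k p) (act k q)) := h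
    rw [unv_vbits (labT_lt p q)] at h'
    exact vbits_inj ((C.code_spec k).ap_lt' _) (labT_lt _ _) h'
  · refine C.code_inj ?_
    rw [C.code_one]
    refine ext_ap11 (C.code_spec k).1 rfl fun v hv => ?_
    rw [ap_one11 hv]
    have h := (hker k).1 hk (vbits v)
    rw [hlin, unv_vbits hv] at h
    exact vbits_inj ((C.code_spec k).ap_lt' _) hv h
  · rw [H90.mem_setSystemAut_iff]
    have hsub : ∀ k, (fun b => b.image (act k)) '' labels.blocks 0 ⊆ labels.blocks 0 := by
      rintro k _ ⟨b, ⟨hbc, hbv⟩, rfl⟩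
      refine ⟨by rw [Finset.card_image_of_injective _ (act k).injective, hbc], ?_⟩
      have he : Even (b.image (act k)).card := by
        rw [Finset.card_image_of_injective _ (act k).injective, hbc]; decide
      rw [labels.val_base 0 (act k 0) he, PairLabels.val,
        Finset.sum_image (act k).injective.injOn,
        ← Finset.sum_congr rfl (fun i _ => hact k 0 i), ← map_sum]
      show lin k (labels.val 0 b) = 0
      rw [hbv, map_zero]
    refine Set.Subset.antisymm (hsub k) fun b hb => ?_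
    refine ⟨b.image (act k⁻¹), hsub k⁻¹ ⟨b, hb, rfl⟩, ?_⟩
    show (b.image (act k⁻¹)).image (act k) = b
    rw [Finset.image_image, map_inv]
    ext x; simp

theorem fixW_iff {act : ↥C.K →* Equiv.Perm (Fin 24)}
    (hact : ∀ k (p q : Fin 24), ap (C.code k) (labT p q) = labT (act k p) (act k q)) (k : ↥C.K) :
    C.FixW k ↔ act k • oct8 = oct8 := by
  have hpair : ∀ r s : Fin 24, r ≠ s →
      (wMask.testBit (labT r s) = true ↔ (r : ℕ) < 8 ∧ (s : ℕ) < 8) := by
    intro r s hrs
    have h := (List.all_eq_true.1 ((List.all_eq_true.1 lab_oct) r (List.mem_range.2 r.2))) s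
      (List.mem_range.2 s.2)
    cases hb : (Nat.blt r 8 && Nat.blt s 8)
    · rw [hb, cond_false, Bool.or_eq_true, Bool.not_eq_true'] at h
      rw [h.resolve_left fun e => hrs (Fin.ext (Nat.eq_of_beq_eq_true e))]
      refine iff_of_false (by simp) fun e => ?_
      rw [show Nat.blt r 8 = true by rw [Nat.blt_eq]; exact e.1,
        show Nat.blt s 8 = true by rw [Nat.blt_eq]; exact e.2] at hb
      exact Bool.noConfusion hb
    · rw [hb, cond_true] at h
      rw [h]
      rw [Bool.and_eq_true, Nat.blt_eq, Nat.blt_eq] at hb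
      exact iff_of_true rfl hb
  constructor
  · intro hk
    refine Finset.eq_of_subset_of_card_le (fun x hx => ?_) (by simp)
    obtain ⟨i, hi, rfl⟩ := Finset.mem_smul_finset.1 hx
    have hi' : (i : ℕ) < 8 := (Finset.mem_filter.1 hi).2
    refine Finset.mem_filter.2 ⟨Finset.mem_univ _, ?_⟩
    obtain ⟨j, hij, hj⟩ : ∃ j : Fin 24, i ≠ j ∧ (j : ℕ) < 8 := by
      by_cases h0 : i = 0
      · exact ⟨1, by rw [h0]; decide, by decide⟩
      · exact ⟨0, h0, by decide⟩
    obtain ⟨a, ha, ea⟩ := (wMask_iff (labT_lt i j)).1 ((hpair i j hij).2 ⟨hi', hj⟩)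
    obtain ⟨b, hb, eb⟩ := hk a ha
    rw [ea, hact] at eb
    exact ((hpair _ _ fun e => hij ((act k).injective e)).1
      ((wMask_iff (labT_lt _ _)).2 ⟨b, hb, eb.symm⟩)).1
  · intro hk
    have hmem : ∀ i : Fin 24, (i : ℕ) < 8 → ((act k i : Fin 24) : ℕ) < 8 := fun i hi => by
      have : act k i ∈ act k • oct8 :=
        Finset.smul_mem_smul_finset (Finset.mem_filter.2 ⟨Finset.mem_univ _, hi⟩)
      rw [hk] at this
      exact (Finset.mem_filter.1 this).2
    refine fun a ha => (xor_ind6 (fun a => ∃ b, b < 64 ∧ ap (C.code k) (wv a) = wv b)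
      ⟨0, by norm_num, by simp [wv, ap_zero_right]⟩ (fun x y ⟨b, hb, eb⟩ ⟨c, hc, ec⟩ =>
        ⟨b ^^^ c, Nat.xor_lt_two_pow (n := 6) hb hc, by rw [wv_xor, ap_xor, eb, ec, wv_xor]⟩)
      (fun j hj => ?_) a ha)
    obtain ⟨i, hi, e⟩ := List.any_eq_true.1 ((List.all_eq_true.1 wb_pts) j (List.mem_range.2 hj))
    rw [List.mem_range] at hi
    rw [wv, ap_two_pow, Nat.eq_of_beq_eq_true e]
    have h := hact k ⟨i, by omega⟩ 0
    have e' : ap (C.code k) (labT i 0) =
        labT (act k ⟨i, by omega⟩ : Fin 24) (act k 0 : Fin 24) := h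
    rw [e']
    by_cases hi0 : (⟨i, by omega⟩ : Fin 24) = 0
    · rw [hi0]
      exact ⟨0, by norm_num, by rw [labT, Nat.xor_self]; simp [wv, ap_zero_right]⟩
    obtain ⟨b, hb, eb⟩ := (wMask_iff (labT_lt _ _)).1 ((hpair _ _
      fun e => hi0 ((act k).injective e)).2 ⟨hmem _ hi, hmem 0 (by decide)⟩)
    exact ⟨b, hb, eb.symm⟩
where
  /-- Induction over the span of the six unit vectors. -/
  xor_ind6 (P : ℕ → Prop) (h0 : P 0) (hx : ∀ a b, P a → P b → P (a ^^^ b))
      (h : ∀ j < 6, P (2 ^ j)) (a : ℕ) (ha : a < 64) : P a := by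
    have key : ∀ a < 64, a = ap [1, 2, 4, 8, 16, 32] a := by decide +kernel
    have hgo : ∀ (l : List ℕ), (∀ x ∈ l, P x) → ∀ v, P (ap l v) := by
      intro l
      induction l with
      | nil => intro _ v; exact h0
      | cons x xs ih =>
        intro hl v
        refine hx _ _ ?_ (ih (fun y hy => hl y (List.mem_cons_of_mem _ hy)) _)
        cases Nat.beq (v % 2) 1
        · exact h0
        · exact hl x (List.mem_cons_self ..)
    rw [key a ha]
    refine hgo _ (fun x hx => ?_) a
    simp only [List.mem_cons, List.not_mem_nil, or_false] at hx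
    rcases hx with rfl | rfl | rfl | rfl | rfl | rfl
    exacts [h 0 (by norm_num), h 1 (by norm_num), h 2 (by norm_num), h 3 (by norm_num),
      h 4 (by norm_num), h 5 (by norm_num)]

theorem card_fixW : Nat.card {k : ↥C.K // C.FixW k} = 322560 := by
  classical
  haveI := C.finite_K
  obtain ⟨act, hact, hinj, hmem⟩ := C.exists_points
  obtain ⟨e, he⟩ := H90.s24_iso (Fintype.card_fin 24) (labels.isSteiner 0)
  let F : ↥(setSystemAut (labels.blocks 0)) ≃* ↥M24 :=
    (H90.setSystemAutEquiv e he).trans (MulEquiv.subgroupCongr H90.M24_eq_setSystemAut_octads).symm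
  let φ : ↥C.K →* ↥(setSystemAut (labels.blocks 0)) := act.codRestrict _ hmem
  have hφ : Function.Bijective φ := by
    refine (Nat.bijective_iff_injective_and_card _).2
      ⟨fun a b h => hinj (congrArg Subtype.val h), ?_⟩
    rw [C.card_K, Nat.card_congr F.toEquiv, H90.natCard_M24]
  letI : MulAction ↥C.K (Finset (Fin 24)) := MulAction.compHom _ act
  have hsmul : ∀ (k : ↥C.K) (s : Finset (Fin 24)), k • s = act k • s := fun _ _ => rfl
  have hsm : ∀ (σ : Equiv.Perm (Fin 24)) (s : Finset (Fin 24)), σ • s = s.image σ := fun _ _ => rfl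
  have ho : oct8 ∈ labels.blocks 0 := ⟨oct8_card, oct8_val⟩
  have hinjI : Function.Injective fun b : Finset (Fin 24) => b.image e :=
    Finset.image_injective e.injective
  have horb : MulAction.orbit ↥C.K oct8 = labels.blocks 0 := by
    refine Set.Subset.antisymm ?_ fun b hb => ?_
    · rintro _ ⟨k, rfl⟩
      have h := (H90.mem_setSystemAut_iff).1 (hmem k)
      rw [← h]
      exact ⟨oct8, ho, (hsm _ _).symm⟩
    · obtain ⟨σ, hσ, hσo⟩ := H90.exists_M24_octad (he ▸ ⟨oct8, ho, rfl⟩ : oct8.image e ∈ octads)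
        (he ▸ ⟨b, hb, rfl⟩ : b.image e ∈ octads)
      obtain ⟨k, hk⟩ := hφ.2 (F.symm ⟨σ, hσ⟩)
      refine ⟨k, hinjI ?_⟩
      have h2 : e.permCongr (act k) = σ := by
        have := congrArg (fun x : ↥M24 => (x : Equiv.Perm GolayPt))
          ((congrArg F hk).trans (F.apply_symm_apply ⟨σ, hσ⟩))
        exact this
      show (k • oct8).image e = b.image e
      rw [← hσo, hsmul, hsm, Finset.image_image, Finset.image_image]
      refine Finset.image_congr fun x _ => ?_
      simp [← h2, Equiv.permCongr_apply]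
  have hcard : (labels.blocks 0).ncard = 759 := by
    rw [← H90.octads_ncard, ← he, Set.ncard_image_of_injective _ hinjI]
  have h := (MulAction.stabilizer ↥C.K oct8).card_mul_index
  rw [MulAction.index_stabilizer, horb, hcard, C.card_K] at h
  have heq : Nat.card {k : ↥C.K // C.FixW k} = Nat.card ↥(MulAction.stabilizer ↥C.K oct8) :=
    Nat.card_congr (Equiv.subtypeEquivRight fun k =>
      (C.fixW_iff hact k).trans MulAction.mem_stabilizer_iff.symm)
  rw [heq]
  omega

end Cfg

end H54.J4A10
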