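import Cfsg.Agent.H54.J4A10.Tbl

/-!
The involutions of the Sylow two-subgroup, their fixed vectors and commutation, checked.
-/

set_option autoImplicit false
set_option maxRecDepth 40000

namespace H54.J4A10

open Cfsg.Agent.H69.J4

/-- Compare a mask with the fixed vectors, one bit of the vector at a time. -/
def fxGo (F : ℕ) : List ℕ → ℕ → ℕ → ℕ → Bool
  | [], _, v, x => F.testBit v == Nat.beq x v
  | a :: as, p, v, x => fxGo F as (p + 1) v x && fxGo F as (p + 1) (v + 2 ^ p) (x ^^^ a)

theorem inv_list : (invP == invD.map fun i => tabD.getD i 0) = true := by decide +kernel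

theorem inv_lt : (invD.all fun i => Nat.blt i 1024) = true := by decide +kernel

theorem inv_len : invD.length = 191 := by decide +kernel

theorem inv_all : (((List.range 1024).zip tabD).all fun x => Nat.beq x.1 0 || invD.contains x.1 ||
    !(let m := unp x.2; mm m m == one11)) = true := by decide +kernel

theorem com_ok : (((List.range 191).zip (invP.zip comD)).all fun a =>
    ((List.range 191).zip invP).all fun b => a.2.2.testBit b.1 ||
      (let l := unp a.2.1; let m := unp b.2
       (List.range 11).any fun j => !Nat.beq (ap l (m.getD j 0)) (ap m (l.getD j 0)))) = true := by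
  decide +kernel

theorem fix_ok : ((invP.zip fixD).all fun a => fxGo a.2 (unp a.1) 0 0 0) = true := by decide +kernel

theorem fix_len : fixD.length = 191 ∧ comD.length = 191 ∧ invP.length = 191 := by decide +kernel

end H54.J4A10
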