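import Cfsg.Agent.H54.J4A10.Data
import Cfsg.Agent.H69.J4.Frame

/-!
Matrices on eleven bits, and a check that a matrix permutes the pair labels.
-/

set_option autoImplicit false
set_option maxRecDepth 20000

namespace H54.J4A10

open Cfsg.Agent.H69.J4 H19.J4V

/-- The identity matrix. -/
def one11 : List ℕ := [1, 2, 4, 8, 16, 32, 64, 128, 256, 512, 1024]

theorem ap_one11 {v : ℕ} (hv : v < 2048) : ap one11 v = v := by
  have h : ((List.range 2048).all fun u => Nat.beq (ap one11 u) u) = true := by decide +kernel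
  exact Nat.eq_of_beq_eq_true ((List.all_eq_true.1 h) v (List.mem_range.2 hv))

theorem ap_two_pow : ∀ (l : List ℕ) (i : ℕ), ap l (2 ^ i) = l.getD i 0
  | [], i => by simp [ap]
  | a :: as, 0 => by simp [ap, ap_zero_right, beq_one_one]
  | a :: as, i + 1 => by
    rw [ap, show (2 : ℕ) ^ (i + 1) % 2 = 0 by simp [pow_succ], beq_zero_one, cond_false,
      Nat.zero_xor, show (2 : ℕ) ^ (i + 1) / 2 = 2 ^ i by simp [pow_succ], ap_two_pow as i,
      List.getD_cons_succ]

theorem ext_ap {n : ℕ} {l m : List ℕ} (hl : l.length = n) (hm : m.length = n)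
    (h : ∀ i < n, ap l (2 ^ i) = ap m (2 ^ i)) : l = m := by
  refine List.ext_getElem (hl.trans hm.symm) fun i h1 h2 => ?_
  have := h i (hl ▸ h1)
  rw [ap_two_pow, ap_two_pow] at this
  simpa [List.getD_eq_getElem?_getD, h1, h2] using this

/-- Two matrices agreeing on all vectors are equal. -/
theorem ext_ap11 {l m : List ℕ} (hl : l.length = 11) (hm : m.length = 11)
    (h : ∀ v < 2048, ap l v = ap m v) : l = m :=
  ext_ap hl hm fun i hi => h _ (Nat.pow_lt_pow_right (by norm_num) hi)

theorem IsM.ap_lt' {l : List ℕ} (h : IsM l) (v : ℕ) : ap l v < 2048 := ap_lt (n := 11) h.2.1 v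

theorem mm_length (A B : List ℕ) : (mm A B).length = B.length := by simp [mm]

theorem mm_one11 {l : List ℕ} (h : IsM l) : mm one11 l = l := by
  refine (List.map_congr_left fun x hx => ?_).trans (List.map_id' l)
  exact ap_one11 (h.2.1 x hx)

theorem mm_cancel {i l : List ℕ} (hl : IsM l) (hil : mm i l = one11) {x y : List ℕ}
    (hx : x.length = 11) (hy : y.length = 11) (hxl : ∀ a ∈ x, a < 2048) (hyl : ∀ a ∈ y, a < 2048)
    (h : mm l x = mm l y) : x = y := by
  have := congrArg (mm i) h
  rw [← mm_assoc, ← mm_assoc, hil] at this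
  refine ext_ap11 hx hy fun v _ => ?_
  have := congrArg (fun m => ap m v) this
  simp only [ap_mm] at this
  rwa [ap_one11 (ap_lt (n := 11) hxl v), ap_one11 (ap_lt (n := 11) hyl v)] at this

/-- The point of a number below twenty-four, as a vector. -/
def pt (p : ℕ) : ℕ := ptsN.getD p 0

theorem labT_eq (p q : ℕ) : labT p q = pt p ^^^ pt q := rfl

/-- A permutation witnessing that a matrix permutes the labels, and an inverse matrix. -/
def isMB (l i : List ℕ) (σ : List ℕ) : Bool :=
  Nat.beq l.length 11 && l.all (fun a => Nat.blt a 2048) && (mm i l == one11) &&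
    (List.range 24).all fun p => Nat.blt (σ.getD p 0) 24 &&
      Nat.beq (ap l (pt p)) (labT (σ.getD p 0) (σ.getD 0 0)) &&
      (List.range p).all fun q => !Nat.beq (σ.getD p 0) (σ.getD q 0)

theorem isM_of {l i σ : List ℕ} (h : isMB l i σ = true) : IsM l := by
  simp only [isMB, Bool.and_eq_true, List.all_eq_true, Nat.blt_eq, beq_iff_eq, List.mem_range,
    Bool.not_eq_true' ] at h
  obtain ⟨⟨⟨h1, h2⟩, h3⟩, h4⟩ := h
  have hlen : l.length = 11 := Nat.eq_of_beq_eq_true h1
  refine ⟨hlen, h2, fun a ha b hb e => ?_, fun p hp q hq hpq => ?_⟩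
  · have := congrArg (ap i) e
    rwa [← ap_mm, ← ap_mm, h3, ap_one11 ha, ap_one11 hb] at this
  · refine ⟨σ.getD p 0, σ.getD q 0, (h4 p hp).1.1, (h4 q hq).1.1, ?_, ?_⟩
    · rcases lt_or_gt_of_ne hpq with hlt | hgt
      · exact fun e => absurd ((h4 q hq).2 p hlt) (by rw [e, Nat.beq_refl]; exact Bool.noConfusion)
      · exact fun e => absurd ((h4 p hp).2 q hgt) (by rw [e, Nat.beq_refl]; exact Bool.noConfusion)
    · rw [labT_eq, ap_xor, Nat.eq_of_beq_eq_true (h4 p hp).1.2,
        Nat.eq_of_beq_eq_true (h4 q hq).1.2, labT_eq, labT_eq, labT_eq]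
      rw [Nat.xor_assoc, ← Nat.xor_assoc (pt (σ.getD 0 0)),
        Nat.xor_comm (pt (σ.getD 0 0)) (pt (σ.getD q 0)), Nat.xor_assoc (pt (σ.getD q 0)),
        Nat.xor_self, Nat.xor_zero]

end H54.J4A10
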