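import Cfsg.Agent.H54.J4A10.Tbl

/-!
Checks about the standard subgroup: its centralizer, its lifts, the pointwise stabiliser of the
octad, and the orbits of the stabiliser on the codes.
-/

set_option autoImplicit false
set_option maxRecDepth 40000

namespace H54.J4A10

open Cfsg.Agent.H69.J4

/-- The mask of `W`. -/
def wMask : ℕ := 1461501636990620551282746369252908412228459298815

/-- Representatives of the cosets of `W`. -/
def reps : List ℕ := [0, 32, 64, 96, 256, 288, 320, 352, 512, 544, 576, 608, 768, 800, 832, 864,
  1024, 1056, 1088, 1120, 1280, 1312, 1344, 1376, 1536, 1568, 1600, 1632, 1792, 1824, 1856, 1888]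

theorem wMask_ok : ((List.range 2048).all fun v => wMask.testBit v ==
    (List.range 64).any fun a => Nat.beq (wv a) v) = true := by decide +kernel

theorem reps_ok : ((List.range 2048).all fun v => reps.any fun r => wMask.testBit (v ^^^ r)) = true := by
  decide +kernel

theorem wv_basic : ((List.range 64).all fun a => Nat.blt (wv a) 2048 &&
    (Nat.beq a 0 || (!Nat.beq (wv a) 0 && isLab (wv a) == !zCode a)) &&
    (List.range 4).all fun j => Nat.beq (ap (gen j) (wv a)) (wv a)) = true := by decide +kernel

theorem fix_W : ((List.range 2048).all fun v =>
    !((List.range 4).all fun j => Nat.beq (ap (gen j) v) v) || wMask.testBit v) = true := by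
  decide +kernel

/-- Two translations of commuting generators commute. -/
def lcom (i j a b : ℕ) : Bool :=
  Nat.beq (a ^^^ ap (gen i) b) (b ^^^ ap (gen j) a)

/-- The candidates for the translation of a generator. -/
def cand (i : ℕ) : List ℕ := reps.filter fun r => Nat.beq (ap (gen i) r) r

/-- A translation is conjugate to the trivial one by the given vector. -/
def moves (v i a : ℕ) : Bool := wMask.testBit (a ^^^ v ^^^ ap (gen i) v)

theorem lift_ok : ((cand 0).all fun a => (cand 1).all fun b => (cand 2).all fun c => (cand 3).all fun e =>
    !(lcom 0 1 a b && lcom 0 2 a c && lcom 0 3 a e && lcom 1 2 b c && lcom 1 3 b e && lcom 2 3 c e) ||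
      [0, 512].any fun v => moves v 0 a && moves v 1 b && moves v 2 c && moves v 3 e) = true := by
  decide +kernel

/-- The points outside the octad, as vectors. -/
def outer : List ℕ := H19.J4V.ptsN.drop 8

/-- A basis of points: the six points of `W` and five others. -/
def base11 : List ℕ := [2, 16, 19, 132, 136, 147, 659, 686, 712, 786, 1043]

/-- Unit vectors over that basis. -/
def invB : List ℕ := [7, 1, 44, 52, 2, 221, 368, 36, 611, 96, 1028]

/-- The outer points over that basis. -/
def outerC : List ℕ := [64, 128, 256, 455, 512, 729, 885, 939, 1024, 1268, 1390, 1437, 1635, 1678,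
  1848, 2002]

theorem base_ok : (mm base11 invB == one11 && outerC.map (ap base11) == outer &&
    base11.take 6 == wBasis) = true := by decide +kernel

/-- The images assigned so far send outer points to outer points. -/
def cons (im : List ℕ) : Bool :=
  outerC.all fun m => !Nat.blt m (2 ^ im.length) || outer.any fun r => Nat.beq (ap im m) r

/-- Complete partial images in every consistent way. -/
def fixGo : ℕ → List ℕ → Bool
  | 0, im => (List.range 16).any fun i => mm im invB == tab i
  | fuel + 1, im => outer.all fun r => !cons (im ++ [r]) || fixGo fuel (im ++ [r])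

theorem fixGo_ok : fixGo 5 wBasis = true := by decide +kernel

theorem outer_label : ((List.range 24).all fun r => (List.range r).all fun s =>
    !((List.range 8).all fun i => isLab (pt i ^^^ H19.J4V.labT r s)) || Nat.beq s 0) = true := by
  decide +kernel

theorem stab_ok : ((List.range 10).all fun g =>
    isMB (unp (stM.getD g 0)) (unp (stI.getD g 0)) (stP.getD g []) &&
      Nat.blt (stV.getD g 0) 2048) = true := by decide +kernel

theorem act_ok : ((List.range 10).all fun g => (List.range 10).all fun j =>
    let l := unp (stM.getD g 0)
    let v := stV.getD g 0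
    let c := (stA.getD g []).getD j 0
    let q := qMat (c / 64)
    Nat.blt c 1024 && (mm l (qMat (2 ^ j / 64)) == mm q l) &&
      Nat.beq (wv (c % 64)) (v ^^^ ap l (wv (2 ^ j % 64)) ^^^ ap q v)) = true := by decide +kernel

theorem act_len : (stA.all fun l => Nat.beq l.length 10) = true := by decide +kernel

/-- The representative of the orbit of a code. -/
def cls (a : ℕ) : ℕ :=
  bif Nat.blt a 64 then (bif zCode a then 7 else 1) else (bif zCode a then 64 else 65)

/-- Follow the forest to the root of a code. -/
def chase : ℕ → ℕ → Option ℕ
  | 0, _ => none
  | fuel + 1, a =>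
    let e := parD.getD a 0
    bif Nat.beq (e / 1024) 10 then some a
    else bif Nat.blt (e / 1024) 10 && Nat.beq (ap (stA.getD (e / 1024) []) (e % 1024)) a then
      chase fuel (e % 1024)
    else none

theorem forest_ok : ((List.range 1024).all fun a => Nat.beq a 0 || chase 40 a == some (cls a)) = true := by
  decide +kernel

end H54.J4A10
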