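import Cfsg.Agent.H54.J4A10.Syl
import Cfsg.Agent.H54.J4A10.Misc
import Cfsg.Prelude.Def_Transfer

/-!
The standard subgroup of order `2 ^ 10` and its centralizer.
-/

set_option autoImplicit false
set_option maxRecDepth 20000

open Subgroup

namespace H54.J4A10

open Cfsg.Agent.H69.J4 H19.J4V

theorem ap_take : ∀ (l : List ℕ) (n m : ℕ), m < 2 ^ n → ap (l.take n) m = ap l m
  | l, 0, m, h => by
    obtain rfl : m = 0 := by simpa using h
    rw [ap_zero_right, ap_zero_right]
  | [], n + 1, m, _ => by simp [ap]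
  | a :: as, n + 1, m, h => by
    rw [pow_succ'] at h
    rw [List.take_succ_cons, ap, ap, ap_take as n (m / 2) (by omega)]

theorem xor_split {a b : ℕ} :
    (a ^^^ b) % 64 = a % 64 ^^^ b % 64 ∧ (a ^^^ b) / 64 = a / 64 ^^^ b / 64 := by
  have h1 : (a ^^^ b) % 2 ^ 6 = (a % 2 ^ 6) ^^^ (b % 2 ^ 6) := Nat.xor_mod_two_pow
  have h2 : (a ^^^ b) >>> 6 = a >>> 6 ^^^ b >>> 6 := Nat.shiftRight_xor_distrib
  rw [Nat.shiftRight_eq_div_pow, Nat.shiftRight_eq_div_pow, Nat.shiftRight_eq_div_pow] at h2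
  exact ⟨by simpa using h1, by simpa using h2⟩

theorem tab_xor : ((List.range 16).all fun a => (List.range 16).all fun b =>
    mm (tab a) (tab b) == tab (a ^^^ b)) = true := by decide +kernel

theorem tab_fix_W : ((List.range 16).all fun i => (List.range 6).all fun j =>
    Nat.beq (ap (tab i) (wBasis.getD j 0)) (wBasis.getD j 0)) = true := by decide +kernel

theorem pt_facts : ((List.range 8).all fun i => (List.range 64).any fun a => Nat.beq (wv a) (pt i)) = true ∧
    pt 0 = 0 := by decide +kernel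

theorem base11_mem : ((List.range 5).all fun j => outer.contains (base11.getD (6 + j) 0)) = true := by
  decide +kernel

theorem isLab_iff {v : ℕ} : isLab v = true ↔ ∃ p q, q < p ∧ p < 24 ∧ labT p q = v := by
  simp only [isLab, List.any_eq_true, List.mem_range]
  exact ⟨fun ⟨p, hp, q, hq, e⟩ => ⟨p, q, hq, hp, Nat.eq_of_beq_eq_true e⟩,
    fun ⟨p, q, hq, hp, e⟩ => ⟨p, hp, q, hq, by rw [e]; exact Nat.beq_refl _⟩⟩

theorem isLab_of {r s : ℕ} (hr : r < 24) (hs : s < 24) (hne : r ≠ s) : isLab (labT r s) = true := by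
  rcases lt_or_gt_of_ne hne with h | h
  · exact isLab_iff.2 ⟨s, r, h, hs, Nat.xor_comm ..⟩
  · exact isLab_iff.2 ⟨r, s, h, hr, rfl⟩

namespace Cfg

variable {G : Type*} [Group G] {z : G} {V : Subgroup G} (C : Cfg z V)

theorem co_zero : C.co 0 = 1 := by
  have h := C.co_xor 0 (by norm_num) 0 (by norm_num)
  rw [Nat.xor_self] at h
  exact mul_eq_left.1 h.symm

theorem co_comm {v w : ℕ} (hv : v < 2048) (hw : w < 2048) : Commute (C.co v) (C.co w) := by
  show _ = _
  rw [← C.co_xor v hv w hw, ← C.co_xor w hw v hv, Nat.xor_comm]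

theorem co_sq {v : ℕ} (hv : v < 2048) : C.co v * C.co v = 1 := by
  rw [← C.co_xor v hv v hv, Nat.xor_self, C.co_zero]

theorem co_inv {v : ℕ} (hv : v < 2048) : (C.co v)⁻¹ = C.co v :=
  inv_eq_of_mul_eq_one_right (C.co_sq hv)

theorem k_co (k : ↥C.K) {v : ℕ} (hv : v < 2048) :
    (k : G) * C.co v = C.co (ap (C.code k) v) * k := by
  rw [← C.code_act k v hv, inv_mul_cancel_right]

theorem decomp_unique {v w : ℕ} (hv : v < 2048) (hw : w < 2048) {j k : ↥C.K}
    (h : C.co v * (j : G) = C.co w * (k : G)) : v = w ∧ j = k := by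
  have h1 : (j : G) * (k : G)⁻¹ = (C.co v)⁻¹ * C.co w := by
    rw [eq_inv_mul_iff_mul_eq, ← mul_assoc, h, mul_inv_cancel_right]
  have h2 : (j : G) * (k : G)⁻¹ ∈ C.K ⊓ V :=
    ⟨C.K.mul_mem j.2 (C.K.inv_mem k.2),
      h1 ▸ V.mul_mem (V.inv_mem (C.co_mem _ hv)) (C.co_mem _ hw)⟩
  rw [C.K_inf, mem_bot, mul_inv_eq_one] at h2
  rw [h2] at h
  exact ⟨C.co_inj _ hv _ hw (mul_right_cancel h), Subtype.ext h2⟩

theorem exists_decomp {g : G} (hg : g ∈ normalizer (V : Set G)) :
    ∃ v < 2048, ∃ k : ↥C.K, g = C.co v * (k : G) := by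
  rw [← C.K_sup, ← SetLike.mem_coe, coe_mul_of_left_le_normalizer_right C.K V C.K_le] at hg
  obtain ⟨k, hk, u, hu, rfl⟩ := Set.mem_mul.1 hg
  obtain ⟨v, hv, rfl⟩ := C.co_surj u hu
  exact ⟨_, (C.code_spec ⟨k, hk⟩).ap_lt' v, ⟨k, hk⟩, C.k_co ⟨k, hk⟩ hv⟩

theorem decomp_mul {v w : ℕ} (hv : v < 2048) (hw : w < 2048) (j k : ↥C.K) :
    C.co v * (j : G) * (C.co w * (k : G)) =
      C.co (v ^^^ ap (C.code j) w) * ((j * k : ↥C.K) : G) := by
  rw [C.co_xor v hv _ ((C.code_spec j).ap_lt' w), coe_mul, mul_assoc, mul_assoc,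
    ← mul_assoc (j : G) (C.co w), C.k_co j hw, mul_assoc]

theorem te_mul {a b : ℕ} (ha : a < 16) (hb : b < 16) : C.te a * C.te b = C.te (a ^^^ b) := by
  have h := (List.all_eq_true.1 ((List.all_eq_true.1 tab_xor) a (List.mem_range.2 ha))) b
    (List.mem_range.2 hb)
  rw [beq_iff_eq] at h
  have hx : a ^^^ b < 1024 := Nat.xor_lt_two_pow (n := 10) (by omega) (by omega)
  exact C.code_inj (by rw [C.code_mul, C.code_te (by omega), C.code_te (by omega), C.code_te hx, h])

theorem wv_lt (a : ℕ) : wv a < 2048 :=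
  ap_lt (n := 11) (by intro x hx; simp [wBasis] at hx; omega) a

theorem wv_xor (a b : ℕ) : wv (a ^^^ b) = wv a ^^^ wv b := ap_xor _ _ _

theorem te_wv {i : ℕ} (hi : i < 16) (a : ℕ) : ap (C.code (C.te i)) (wv a) = wv a := by
  rw [C.code_te (by omega), wv, ← ap_mm]
  refine congrArg (fun l => ap l a) ?_
  have h := (List.all_eq_true.1 tab_fix_W) i (List.mem_range.2 hi)
  refine List.ext_getElem (by simp [mm]) fun j h1 h2 => ?_
  have := Nat.eq_of_beq_eq_true ((List.all_eq_true.1 h) j (List.mem_range.2 h2))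
  simp only [mm, List.getElem_map]
  simpa [List.getD_eq_getElem?_getD, List.getElem?_eq_getElem h2] using this

theorem ael_eq {a : ℕ} (ha : a < 1024) : C.ael a = C.co (wv (a % 64)) * (C.te (a / 64) : G) := by
  rw [ael, C.qel_eq (by omega)]

theorem ael_xor {a b : ℕ} (ha : a < 1024) (hb : b < 1024) :
    C.ael (a ^^^ b) = C.ael a * C.ael b := by
  have hx : a ^^^ b < 1024 := Nat.xor_lt_two_pow (n := 10) ha hb
  rw [C.ael_eq ha, C.ael_eq hb, C.ael_eq hx, C.decomp_mul (wv_lt _) (wv_lt _),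
    C.te_wv (by omega), C.te_mul (by omega) (by omega), xor_split.1, xor_split.2, wv_xor]

theorem ael_zero : C.ael 0 = 1 := by
  rw [C.ael_eq (by norm_num), Nat.zero_mod, Nat.zero_div, C.te_zero,
    show wv 0 = 0 from ap_zero_right _, C.co_zero]
  simp

theorem wv_inj {a b : ℕ} (ha : a < 64) (hb : b < 64) (h : wv a = wv b) : a = b := by
  by_contra hne
  have hx : a ^^^ b < 64 := Nat.xor_lt_two_pow (n := 6) ha hb
  have hc := (List.all_eq_true.1 wv_basic) _ (List.mem_range.2 hx)
  simp only [Bool.and_eq_true, Bool.or_eq_true, Bool.not_eq_true'] at hc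
  rcases hc.1.2 with h0 | h0
  · exact hne (Nat.xor_eq_zero_iff.1 (Nat.eq_of_beq_eq_true h0))
  · rw [wv_xor, h, Nat.xor_self] at h0
    simp at h0

theorem ael_inj {a b : ℕ} (ha : a < 1024) (hb : b < 1024) (h : C.ael a = C.ael b) : a = b := by
  rw [C.ael_eq ha, C.ael_eq hb] at h
  obtain ⟨h1, h2⟩ := C.decomp_unique (wv_lt _) (wv_lt _) h
  have h1 := wv_inj (by omega) (by omega) h1
  have h2 := C.eq_of_te (by omega) (by omega) h2
  omega

theorem mem_A0 {g : G} : g ∈ C.A0 ↔ ∃ a, a < 1024 ∧ C.ael a = g := by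
  refine ⟨fun h => ?_, fun ⟨a, ha, e⟩ => e ▸ subset_closure ⟨a, ha, rfl⟩⟩
  rw [A0] at h
  induction h using closure_induction with
  | mem x hx => obtain ⟨a, ha, rfl⟩ := hx; exact ⟨a, ha, rfl⟩
  | one => exact ⟨0, by norm_num, C.ael_zero⟩
  | mul x y _ _ hx hy =>
    obtain ⟨a, ha, rfl⟩ := hx
    obtain ⟨b, hb, rfl⟩ := hy
    exact ⟨a ^^^ b, Nat.xor_lt_two_pow (n := 10) ha hb, C.ael_xor ha hb⟩
  | inv x _ hx =>
    obtain ⟨a, ha, rfl⟩ := hx
    exact ⟨a, ha, (inv_eq_of_mul_eq_one_right
      (by rw [← C.ael_xor ha ha, Nat.xor_self, C.ael_zero])).symm⟩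

theorem A0_le : C.A0 ≤ normalizer (V : Set G) := fun g hg => by
  obtain ⟨a, ha, rfl⟩ := C.mem_A0.1 hg
  rw [C.ael_eq ha]
  exact mul_mem (le_normalizer (C.co_mem _ (wv_lt _))) (C.K_le (C.te _).2)

theorem ael_mem_iff {a : ℕ} (ha : a < 1024) : C.ael a ∈ V ↔ a < 64 := by
  rw [C.ael_eq ha]
  constructor
  · intro h
    have h1 : (C.te (a / 64) : G) ∈ C.K ⊓ V :=
      ⟨(C.te _).2, (mul_mem_cancel_left (C.co_mem _ (wv_lt _))).1 h⟩
    rw [C.K_inf, mem_bot] at h1
    have := C.eq_of_te (a := a / 64) (b := 0) (by omega) (by norm_num)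
      (by rw [C.te_zero]; exact Subtype.ext h1)
    omega
  · intro h
    rw [show a / 64 = 0 by omega, C.te_zero]
    simpa using C.co_mem _ (wv_lt _)

theorem ael_low {a : ℕ} (ha : a < 64) : C.ael a = C.co (wv a) := by
  rw [C.ael_eq (by omega), Nat.mod_eq_of_lt ha, Nat.div_eq_of_lt ha, C.te_zero]
  simp

theorem ael_conj_z {a : ℕ} (h0 : 0 < a) (ha : a < 64) : IsConj z (C.ael a) ↔ zCode a = true := by
  have h := (List.all_eq_true.1 wv_basic) a (List.mem_range.2 ha)
  simp only [Bool.and_eq_true, Bool.or_eq_true, Bool.not_eq_true', beq_iff_eq] at h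
  rcases h.1.2 with h1 | ⟨h1, h2⟩
  · exact absurd (Nat.eq_of_beq_eq_true h1) (by omega)
  · rw [C.ael_low ha, C.conj_z _ (wv_lt a) (fun e => by simp [e] at h1), h2]
    simp

theorem A0_elementary : Cfsg.IsElementaryAbelian 2 C.A0 := by
  refine ⟨⟨⟨fun x y => ?_⟩⟩, fun g hg => ?_⟩
  · obtain ⟨a, ha, ea⟩ := C.mem_A0.1 x.2
    obtain ⟨b, hb, eb⟩ := C.mem_A0.1 y.2
    refine Subtype.ext ?_
    show (x : G) * y = (y : G) * x
    rw [← ea, ← eb, ← C.ael_xor ha hb, ← C.ael_xor hb ha, Nat.xor_comm]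
  · obtain ⟨a, ha, rfl⟩ := C.mem_A0.1 hg
    rw [pow_two, ← C.ael_xor ha ha, Nat.xor_self, C.ael_zero]

theorem card_A0 : Nat.card ↥C.A0 = 2 ^ 10 := by
  refine (Nat.card_eq_of_bijective
    (fun i : Fin 1024 => (⟨C.ael i, C.mem_A0.2 ⟨i, i.2, rfl⟩⟩ : ↥C.A0))
    ⟨fun a b e => Fin.ext (C.ael_inj a.2 b.2 (congrArg Subtype.val e)), fun s => ?_⟩).symm.trans
    ((Nat.card_fin 1024).trans (by norm_num))
  obtain ⟨i, hi, e⟩ := C.mem_A0.1 s.2
  exact ⟨⟨i, hi⟩, Subtype.ext e⟩

/-- An element of the complement fixing `W` is in `Q₀`. -/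
theorem exists_q_of_fix {k : ↥C.K} (hk : ∀ a, a < 64 → ap (C.code k) (wv a) = wv a) :
    ∃ i, i < 16 ∧ k = C.te i := by
  set l := C.code k
  have hl : IsM l := C.code_spec k
  have hpi : ∀ i < 8, ap l (pt i) = pt i := fun i hi => by
    obtain ⟨a, ha, e⟩ := List.any_eq_true.1 ((List.all_eq_true.1 pt_facts.1) i (List.mem_range.2 hi))
    rw [← Nat.eq_of_beq_eq_true e]
    exact hk a (List.mem_range.1 ha)
  have hout : ∀ x ∈ outer, ap l x ∈ outer := by
    intro x hx
    obtain ⟨n, hn, rfl⟩ := List.mem_iff_getElem.1 hx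
    have hlen : outer.length = 16 := by decide +kernel
    have hx' : outer[n] = pt (n + 8) := by
      simp only [outer, List.getElem_drop, pt, List.getD_eq_getElem?_getD]
      rw [List.getElem?_eq_getElem (by simp [ptsN]; omega)]
      simp [Nat.add_comm]
    rw [hx']
    obtain ⟨r, s, hr, hs, hrs, e⟩ := hl.2.2.2 (n + 8) (by omega) 0 (by norm_num) (by omega)
    rw [labT_eq, pt_facts.2, Nat.xor_zero] at e
    have hlab : ∀ i < 8, isLab (pt i ^^^ labT r s) = true := fun i hi => by
      obtain ⟨r', s', hr', hs', hne, e'⟩ := hl.2.2.2 i (by omega) (n + 8) (by omega) (by omega)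
      rw [labT_eq, ap_xor, hpi i hi, e] at e'
      rw [e']
      exact isLab_of hr' hs' hne
    have key : ∀ r s, s < r → r < 24 → ap l (pt (n + 8)) = labT r s →
        (∀ i < 8, isLab (pt i ^^^ labT r s) = true) → ap l (pt (n + 8)) ∈ outer := by
      intro r s hsr hr e hlab
      have h := (List.all_eq_true.1 ((List.all_eq_true.1 outer_label) r (List.mem_range.2 hr))) s
        (List.mem_range.2 hsr)
      rw [Bool.or_eq_true, Bool.not_eq_true'] at h
      rcases h with h | h
      · rw [List.all_eq_true.2 fun i hi => hlab i (List.mem_range.1 hi)] at h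
        exact Bool.noConfusion h
      rw [Nat.eq_of_beq_eq_true h, labT_eq, pt_facts.2, Nat.xor_zero] at e
      by_cases h8 : r < 8
      · exfalso
        have hb : ∀ p, pt p < 2048 := fun p => by
          rcases Nat.lt_or_ge p 24 with hp | hp
          · have := (List.all_eq_true.1 lab_basic) p (List.mem_range.2 hp)
            simp only [Bool.and_eq_true, Nat.blt_eq] at this
            exact this.1
          · rw [pt, List.getD_eq_getElem?_getD, List.getElem?_eq_none (by simpa [ptsN] using hp)]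
            norm_num
        have := hl.2.2.1 _ (hb _) _ (hb r) (e.trans (hpi r h8).symm)
        have hd := (List.all_eq_true.1 lab_basic) (n + 8) (List.mem_range.2 (by omega))
        simp only [Bool.and_eq_true, List.all_eq_true, List.mem_range, Bool.not_eq_true'] at hd
        have := (hd.2 r (by omega))
        rw [show ptsN.getD (n + 8) 0 = ptsN.getD r 0 from ‹pt (n + 8) = pt r›] at this
        simp at this
      · rw [e]
        have hr' : r - 8 < outer.length := by omega
        refine List.mem_iff_getElem.2 ⟨r - 8, hr', ?_⟩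
        simp only [outer, List.getElem_drop, pt, List.getD_eq_getElem?_getD]
        rw [List.getElem?_eq_getElem (by simp [ptsN]; omega)]
        simp [show 8 + (r - 8) = r by omega]
    rcases lt_or_gt_of_ne hrs with h | h
    · refine key s r h hs (e.trans (Nat.xor_comm ..)) fun i hi => ?_
      rw [show labT s r = labT r s from Nat.xor_comm ..]
      exact hlab i hi
    · exact key r s h hr e hlab
  have hb := base_ok
  simp only [Bool.and_eq_true, beq_iff_eq] at hb
  obtain ⟨⟨hb1, hb2⟩, hb3⟩ := hb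
  have hgo : ∀ fuel j, fuel + j = 5 → fixGo fuel ((base11.take (6 + j)).map (ap l)) = true →
      ∃ i, i < 16 ∧ k = C.te i := by
    intro fuel
    induction fuel with
    | zero =>
      intro j hj h
      obtain rfl : j = 5 := by omega
      obtain ⟨i, hi, e⟩ := List.any_eq_true.1 h
      rw [beq_iff_eq, show base11.take (6 + 5) = base11 from rfl] at e
      refine ⟨i, List.mem_range.1 hi, C.code_inj ?_⟩
      rw [C.code_te (by have := List.mem_range.1 hi; omega), ← e,
        show base11.map (ap l) = mm l base11 from rfl, mm_assoc, hb1]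
      refine ext_ap11 hl.1 rfl fun v hv => ?_
      rw [ap_mm, ap_one11 hv]
    | succ fuel ih =>
      intro j hj h
      have hlen : base11.length = 11 := rfl
      have hm : base11[6 + j]'(by omega) ∈ outer := by
        have h := (List.all_eq_true.1 base11_mem) j (List.mem_range.2 (by omega))
        simpa [List.getD_eq_getElem?_getD, List.getElem?_eq_getElem (show 6 + j < base11.length by omega)] using h
      have hstep : (base11.take (6 + (j + 1))).map (ap l) =
          (base11.take (6 + j)).map (ap l) ++ [ap l (base11[6 + j]'(by omega))] := by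
        rw [List.map_take, List.map_take, show 6 + (j + 1) = 6 + j + 1 by omega, List.take_add_one,
          List.getElem?_eq_getElem (by rw [List.length_map]; omega), List.getElem_map]
        rfl
      have h' := (List.all_eq_true.1 h) _ (hout _ hm)
      rw [← hstep, Bool.or_eq_true, Bool.not_eq_true'] at h'
      refine ih (j + 1) (by omega) (h'.resolve_left ?_)
      rw [Bool.not_eq_false, cons, List.all_eq_true]
      intro m hmem
      rw [Bool.or_eq_true, Bool.not_eq_true']
      rcases Nat.lt_or_ge m (2 ^ (6 + (j + 1))) with hlt | hge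
      · refine Or.inr (List.any_eq_true.2 ⟨_, hout (ap base11 m) ?_, ?_⟩)
        · rw [← hb2]; exact List.mem_map.2 ⟨m, hmem, rfl⟩
        · rw [ap_map (ap_xor l) (ap_zero_right l), ap_take _ _ _ hlt]
          exact Nat.beq_refl _
      · refine Or.inl ?_
        rw [← Bool.not_eq_true, Nat.blt_eq, List.length_map, List.length_take, hlen,
          Nat.min_eq_left (by omega)]
        omega
  refine hgo 5 0 rfl ?_
  rw [show 6 + 0 = 6 from rfl, hb3, show wBasis.map (ap l) = wBasis from ?_]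
  · exact fixGo_ok
  refine (List.map_congr_left fun x hx => ?_).trans (List.map_id' _)
  obtain ⟨n, hn, rfl⟩ := List.mem_iff_getElem.1 hx
  have hw : wBasis[n] = wv (2 ^ n) := by
    rw [wv, ap_two_pow, List.getD_eq_getElem?_getD, List.getElem?_eq_getElem hn]; rfl
  rw [hw]
  exact hk _ (Nat.pow_lt_pow_right (n := 6) (by norm_num) hn)

theorem centralizer_A0 : centralizer (C.A0 : Set G) = C.A0 := by
  refine le_antisymm (fun g hg => ?_) fun g hg => ?_
  · have hcomm : ∀ a, a < 1024 → C.ael a * g = g * C.ael a := fun a ha =>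
      mem_centralizer_iff.1 hg _ (C.mem_A0.2 ⟨a, ha, rfl⟩)
    have hN : g ∈ normalizer (V : Set G) := by
      refine C.cent_lab (wv 1) (wv_lt 1) (by decide +kernel) (mem_centralizer_singleton_iff.2 ?_)
      rw [← C.ael_low (show 1 < 64 by norm_num)]
      exact (hcomm 1 (by norm_num)).symm
    obtain ⟨v, hv, k, rfl⟩ := C.exists_decomp hN
    have hW : ∀ a, a < 64 → ap (C.code k) (wv a) = wv a := fun a ha => by
      have h := hcomm a (by omega)
      rw [C.ael_low ha, show C.co (wv a) = C.co (wv a) * ((1 : ↥C.K) : G) by simp,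
        C.decomp_mul (wv_lt a) hv, C.decomp_mul hv (wv_lt a), C.code_one, ap_one11 hv] at h
      have := (C.decomp_unique (Nat.xor_lt_two_pow (n := 11) (wv_lt a) hv)
        (Nat.xor_lt_two_pow (n := 11) hv ((C.code_spec k).ap_lt' _)) h).1
      rw [Nat.xor_comm] at this
      exact ((Nat.xor_right_inj).1 this).symm
    obtain ⟨i, hi, rfl⟩ := C.exists_q_of_fix hW
    have hv' : ∀ j < 4, ap (gen j) v = v := fun j hj => by
      have hlt : (2 : ℕ) ^ j < 16 := Nat.pow_lt_pow_right (n := 4) (by norm_num) hj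
      have h := hcomm (64 * 2 ^ j) (by omega)
      rw [C.ael_eq (by omega), show 64 * 2 ^ j % 64 = 0 by omega,
        show 64 * 2 ^ j / 64 = 2 ^ j by omega, show wv 0 = 0 from ap_zero_right _,
        C.decomp_mul (by norm_num) hv, C.decomp_mul hv (by norm_num),
        Nat.zero_xor, ap_zero_right, Nat.xor_zero, C.code_te (by omega)] at h
      exact (C.decomp_unique (ap_lt (n := 11) (by
        have := C.code_spec (C.te (2 ^ j)); rw [C.code_te (by omega)] at this; exact this.2.1) v)
        hv h).1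
    have hmask : wMask.testBit v = true := by
      have h := (List.all_eq_true.1 fix_W) v (List.mem_range.2 hv)
      rw [List.all_eq_true.2 fun j hj => by
        rw [hv' j (List.mem_range.1 hj)]; exact Nat.beq_refl _] at h
      simpa using h
    have h := (List.all_eq_true.1 wMask_ok) v (List.mem_range.2 hv)
    rw [beq_iff_eq, hmask] at h
    obtain ⟨a, ha, e⟩ := List.any_eq_true.1 h.symm
    rw [List.mem_range] at ha
    refine C.mem_A0.2 ⟨a + 64 * i, by omega, ?_⟩
    rw [C.ael_eq (by omega), show (a + 64 * i) % 64 = a by omega,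
      show (a + 64 * i) / 64 = i by omega, Nat.eq_of_beq_eq_true e]
  · refine mem_centralizer_iff.2 fun x hx => ?_
    obtain ⟨⟨⟨hc⟩⟩, -⟩ := C.A0_elementary
    exact congrArg Subtype.val (hc ⟨x, hx⟩ ⟨g, hg⟩)

end Cfg

end H54.J4A10
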