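import Cfsg.Agent.H54.J4A10.Basic
import Cfsg.Agent.H54.J4A10.Inv
import Cfsg.Agent.H54.J4A10.Dfs

/-!
Only one elementary abelian subgroup of the Sylow two-subgroup has enough fixed vectors.
-/

set_option autoImplicit false
set_option maxRecDepth 20000

open Subgroup

namespace H54.J4A10

open Cfsg.Agent.H69.J4

theorem fxGo_spec (F : ℕ) : ∀ (as : List ℕ) (p v x : ℕ), fxGo F as p v x = true →
    ∀ c < 2 ^ as.length, F.testBit (v + 2 ^ p * c) = Nat.beq (x ^^^ ap as c) (v + 2 ^ p * c)
  | [], p, v, x, h, c, hc => by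
    obtain rfl : c = 0 := by simpa using hc
    simpa [fxGo, ap] using h
  | a :: as, p, v, x, h, c, hc => by
    simp only [fxGo, Bool.and_eq_true] at h
    rw [List.length_cons, pow_succ'] at hc
    have hd : c / 2 < 2 ^ as.length := by omega
    rcases Nat.mod_two_eq_zero_or_one c with h2 | h2
    · have e : c = 2 * (c / 2) := by omega
      have := fxGo_spec F as _ _ _ h.1 _ hd
      rw [show v + 2 ^ (p + 1) * (c / 2) = v + 2 ^ p * c by
        conv_rhs => rw [e]
        ring] at this
      rw [this, ap, h2, beq_zero_one, cond_false, Nat.zero_xor]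
    · have e : c = 2 * (c / 2) + 1 := by omega
      have := fxGo_spec F as _ _ _ h.2 _ hd
      rw [show v + 2 ^ p + 2 ^ (p + 1) * (c / 2) = v + 2 ^ p * c by
        conv_rhs => rw [e]
        ring] at this
      rw [this, ap, h2, beq_one_one, cond_true, Nat.xor_assoc]

theorem bits_lowest {F i : ℕ} (hi : F.testBit i = true) (hlow : ∀ j < i, F.testBit j = false) (j : ℕ) :
    (F &&& (F - 1)).testBit j = (F.testBit j && !decide (j = i)) := by
  have hmod : F % 2 ^ (i + 1) = 2 ^ i := by
    refine Nat.eq_of_testBit_eq fun k => ?_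
    rw [Nat.testBit_mod_two_pow, Nat.testBit_two_pow]
    rcases lt_trichotomy k i with hk | hk | hk
    · simp [hlow k hk, show i ≠ k by omega]
    · subst hk; simp [hi]
    · simp [show ¬ k < i + 1 by omega, show i ≠ k by omega]
  have hpos := Nat.two_pow_pos i
  have hF : F = 2 ^ (i + 1) * (F / 2 ^ (i + 1)) + 2 ^ i := by
    conv_lhs => rw [← Nat.div_add_mod F (2 ^ (i + 1)), hmod]
  have hlt : 2 ^ i < 2 ^ (i + 1) := Nat.pow_lt_pow_right (by norm_num) (Nat.lt_succ_self i)
  have e1 : F - 1 = 2 ^ (i + 1) * (F / 2 ^ (i + 1)) + (2 ^ i - 1) := by omega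
  rw [Nat.testBit_and]
  conv_lhs => arg 2; rw [e1, Nat.testBit_two_pow_mul_add _ (by omega : 2 ^ i - 1 < 2 ^ (i + 1)) j]
  rcases lt_trichotomy j i with hj | hj | hj
  · simp [hlow j hj]
  · subst hj; simp [Nat.testBit_two_pow_sub_one]
  · rw [if_neg (by omega : ¬ j < i + 1)]
    have : F.testBit j = (F / 2 ^ (i + 1)).testBit (j - (i + 1)) := by
      conv_lhs => rw [hF, Nat.testBit_two_pow_mul_add _ hlt j, if_neg (by omega : ¬ j < i + 1)]
    rw [← this]
    simp [show j ≠ i by omega]

theorem popIs_of_card : ∀ (k F : ℕ) (s : Finset ℕ), (∀ j, F.testBit j = true ↔ j ∈ s) → s.card = k →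
    popIs k F = true
  | 0, F, s, hs, hc => by
    have : F = 0 := Nat.eq_of_testBit_eq fun j => by
      rw [Nat.zero_testBit, ← Bool.not_eq_true, hs, Finset.card_eq_zero.1 hc]
      simp
    simp [popIs, this]
  | k + 1, F, s, hs, hc => by
    classical
    have hex : ∃ j, F.testBit j = true := by
      obtain ⟨j, hj⟩ := Finset.card_pos.1 (show 0 < s.card by omega)
      exact ⟨j, (hs j).2 hj⟩
    have hF : F ≠ 0 := fun e => by obtain ⟨j, hj⟩ := hex; simp [e] at hj
    have hi := Nat.find_spec hex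
    have hlow : ∀ j < Nat.find hex, F.testBit j = false := fun j hj => by
      simpa using Nat.find_min hex hj
    simp only [popIs, Bool.and_eq_true, Bool.not_eq_true']
    refine ⟨?_, popIs_of_card k _ (s.erase (Nat.find hex)) (fun j => ?_) ?_⟩
    · cases h : Nat.beq F 0
      · rfl
      · exact absurd (Nat.eq_of_beq_eq_true h) hF
    · rw [bits_lowest hi hlow, Finset.mem_erase, ← hs]
      simp [and_comm]
    · rw [Finset.card_erase_of_mem ((hs _).1 hi)]; omega

theorem testBit_gen (L : List (ℕ × ℕ)) (hL : (L.all fun a => fxGo a.2 (unp a.1) 0 0 0) = true)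
    {x : ℕ × ℕ} (hmem : x ∈ L) {v : ℕ} (hv : v < 2048) :
    x.2.testBit v = Nat.beq (ap (unp x.1) v) v := by
  have hlen : (unp x.1).length = 11 := by simp only [unp, List.length_map, List.length_range]
  have hgo := List.all_eq_true.1 hL x hmem
  have h := fxGo_spec x.2 (unp x.1) 0 0 0 hgo v (by rw [hlen]; exact hv)
  simpa only [pow_zero, one_mul, Nat.zero_add, Nat.zero_xor] using h

theorem testBit_fix {a i F : ℕ} (hai : invP[a]? = some (tabD.getD i 0)) (hF : fixD[a]? = some F) {v : ℕ}
    (hv : v < 2048) : F.testBit v = Nat.beq (ap (tab i) v) v :=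
  testBit_gen (invP.zip fixD) fix_ok (x := (tabD.getD i 0, F))
    (List.mem_iff_getElem?.2 ⟨a, List.getElem?_zip_eq_some.2 ⟨hai, hF⟩⟩) hv

namespace Cfg

variable {G : Type*} [Group G] {z : G} {V : Subgroup G} (C : Cfg z V)

theorem te_split : ∀ n ≤ 10, ∀ a < 2 ^ n, ∀ m ≤ n,
    C.te a = C.te (a - a % 2 ^ m) * C.te (a % 2 ^ m) := by
  intro n
  induction n with
  | zero =>
    intro _ a ha m _
    obtain rfl : a = 0 := by simpa using ha
    simp [C.te_zero]
  | succ n ih =>
    intro hn a ha m hm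
    rcases Nat.eq_or_lt_of_le hm with rfl | hm
    · rw [Nat.mod_eq_of_lt ha, Nat.sub_self, C.te_zero, one_mul]
    by_cases h : a < 2 ^ n
    · exact ih (by omega) a h m (by omega)
    obtain ⟨c, rfl⟩ : ∃ c, a = 2 ^ n + c := ⟨a - 2 ^ n, by omega⟩
    rw [pow_succ'] at ha
    have hd : 2 ^ m ∣ 2 ^ n := pow_dvd_pow 2 (by omega)
    obtain ⟨d, hd'⟩ := hd
    have he : (2 ^ n + c) % 2 ^ m = c % 2 ^ m := by rw [hd', Nat.mul_add_mod]
    have hle := Nat.mod_le c (2 ^ m)
    rw [he, show 2 ^ n + c - c % 2 ^ m = 2 ^ n + (c - c % 2 ^ m) by omega,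
      C.te_step (by omega) (by omega), C.te_step (by omega) (by omega), mul_assoc,
      ← ih (by omega) c (by omega) m (by omega)]

/-- Multiplying by an element of top bit `j` clears that bit and keeps the higher ones. -/
theorem clear_bit {j a b : ℕ} (hj : j < 10) (ha : a < 1024) (ha1 : a.testBit j = true)
    (hb1 : 2 ^ j ≤ b) (hb2 : b < 2 ^ (j + 1)) :
    ∃ c < 1024, C.te c = C.te a * C.te b ∧ c.testBit j = false ∧
      ∀ k, j < k → c.testBit k = a.testBit k := by
  set a0 := a % 2 ^ (j + 1) with ha0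
  have h0 : a0 < 2 ^ (j + 1) := Nat.mod_lt _ (Nat.two_pow_pos _)
  have hbit : a0.testBit j = true := by simp [ha0, Nat.testBit_mod_two_pow, ha1]
  have h0' : 2 ^ j ≤ a0 := Nat.ge_two_pow_of_testBit hbit
  obtain ⟨x, hx, hx'⟩ : ∃ x, x < 2 ^ j ∧ a0 = 2 ^ j + x :=
    ⟨a0 - 2 ^ j, by rw [pow_succ'] at h0; omega, by omega⟩
  obtain ⟨y, hy, hy'⟩ : ∃ y, y < 2 ^ j ∧ b = 2 ^ j + y :=
    ⟨b - 2 ^ j, by rw [pow_succ'] at hb2; omega, by omega⟩
  have hmem : C.te a0 * C.te b ∈ C.ser j := by
    have h := mul_mem (mul_mem (C.gen_sq hj) (C.conj_ser hj (C.te_mem j hj.le x hx)))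
      (C.te_mem j hj.le y hy)
    rwa [show C.te (2 ^ j) * C.te (2 ^ j) * ((C.te (2 ^ j))⁻¹ * C.te x * C.te (2 ^ j)) * C.te y =
      C.te a0 * C.te b by rw [hx', hy', C.te_step hj hx, C.te_step hj hy]; group] at h
  obtain ⟨d, hd, hde⟩ := C.exists_of_mem j hj.le _ hmem
  set q := a / 2 ^ (j + 1) with hq
  have hqa : 2 ^ (j + 1) * q + a0 = a := Nat.div_add_mod a _
  have hd1 : d < 2 ^ (j + 1) := hd.trans (Nat.pow_lt_pow_right (by norm_num) (Nat.lt_succ_self j))
  have hlt : 2 ^ (j + 1) * q + d < 1024 := by omega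
  refine ⟨2 ^ (j + 1) * q + d, hlt, ?_, ?_, fun k hk => ?_⟩
  · rw [C.te_split 10 le_rfl _ hlt (j + 1) hj, C.te_split 10 le_rfl a ha (j + 1) hj, mul_assoc,
      ← ha0, hde, show a - a0 = 2 ^ (j + 1) * q by omega, Nat.mul_add_mod, Nat.mod_eq_of_lt hd1,
      Nat.add_sub_cancel]
  · rw [Nat.testBit_two_pow_mul_add _ hd1, if_pos (by omega : j < j + 1), Nat.testBit_lt_two_pow hd]
  · conv_rhs => rw [← hqa]
    rw [Nat.testBit_two_pow_mul_add _ hd1, Nat.testBit_two_pow_mul_add _ h0]
    simp [show ¬ k < j + 1 by omega]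

theorem fix_mul {x y : ↥C.K} {v : ℕ} (hx : ap (C.code x) v = v) (hy : ap (C.code y) v = v) :
    ap (C.code (x * y)) v = v := by
  rw [C.code_mul, ap_mm, hy, hx]

theorem entry {i : ℕ} (hi : i < 1024) (hi0 : i ≠ 0) (h2 : C.te i * C.te i = 1) :
    ∃ a, a < 191 ∧ invD[a]? = some i := by
  have hm : mm (tab i) (tab i) = one11 := by
    rw [← C.code_te hi, ← C.code_mul, h2, C.code_one]
  have hmem : (i, tabD.getD i 0) ∈ (List.range 1024).zip tabD := by
    rw [List.mem_iff_getElem]
    refine ⟨i, by simp [tab_len, hi], ?_⟩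
    simp [List.getD_eq_getElem?_getD, tab_len, hi]
  have h := (List.all_eq_true.1 inv_all) _ hmem
  simp only [Bool.or_eq_true, Bool.not_eq_true', List.contains_eq_mem, decide_eq_true_eq] at h
  rcases h with (h | h) | h
  · exact absurd (Nat.eq_of_beq_eq_true h) hi0
  · obtain ⟨a, ha, e⟩ := List.mem_iff_getElem.1 h
    exact ⟨a, inv_len ▸ ha, by rw [List.getElem?_eq_getElem ha, e]⟩
  · rw [show unp (tabD.getD i 0) = tab i from rfl, hm] at h
    simp at h

theorem inv_pair {a i : ℕ} (hi : invD[a]? = some i) :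
    i < 1024 ∧ invP[a]? = some (tabD.getD i 0) := by
  refine ⟨?_, ?_⟩
  · have := (List.all_eq_true.1 inv_lt) i (List.mem_of_getElem? hi)
    simpa [Nat.blt_eq] using this
  · rw [eq_of_beq inv_list, List.getElem?_map, hi]; rfl

theorem com_bit {a b i k : ℕ} (ha : invD[a]? = some i) (hb : invD[b]? = some k) {c : ℕ}
    (hc : comD[a]? = some c) (hcm : Commute (C.te i) (C.te k)) : c.testBit b = true := by
  obtain ⟨hi, hai⟩ := inv_pair ha
  obtain ⟨hk, hbk⟩ := inv_pair hb
  have hb' : b < 191 := inv_len ▸ (List.getElem?_eq_some_iff.1 hb).1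
  have ha' : a < 191 := inv_len ▸ (List.getElem?_eq_some_iff.1 ha).1
  have hA : (a, tabD.getD i 0, c) ∈ (List.range 191).zip (invP.zip comD) := by
    refine List.mem_of_getElem? (i := a) ?_
    simp [List.getElem?_zip_eq_some, hai, hc, ha']
  have hB : (b, tabD.getD k 0) ∈ (List.range 191).zip invP := by
    refine List.mem_of_getElem? (i := b) ?_
    simp [List.getElem?_zip_eq_some, hbk, hb']
  have h := (List.all_eq_true.1 ((List.all_eq_true.1 com_ok) _ hA)) _ hB
  rcases Bool.or_eq_true_iff.1 h with h | h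
  · exact h
  obtain ⟨j, hj, hne⟩ := List.any_eq_true.1 h
  simp only [Bool.not_eq_true'] at hne
  refine absurd ?_ (fun e : Nat.beq (ap (tab i) ((tab k).getD j 0)) (ap (tab k) ((tab i).getD j 0)) =
    true => Bool.noConfusion ((hne.symm.trans e) : false = true))
  have he : mm (tab i) (tab k) = mm (tab k) (tab i) := by
    rw [← C.code_te hi, ← C.code_te hk, ← C.code_mul, ← C.code_mul, hcm.eq]
  have := congrArg (fun l => ap l (2 ^ j)) he
  rw [ap_mm, ap_mm, ap_two_pow, ap_two_pow] at this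
  rw [this, Nat.beq_refl]

theorem fix_bit {a i F : ℕ} (ha : invD[a]? = some i) (hF : fixD[a]? = some F) {v : ℕ} (hv : v < 2048) :
    F.testBit v = true ↔ ap (C.code (C.te i)) v = v := by
  obtain ⟨hi, hai⟩ := inv_pair ha
  rw [C.code_te hi, testBit_fix hai hF hv]
  exact ⟨Nat.eq_of_beq_eq_true, fun e => by rw [e]; exact Nat.beq_refl _⟩

/-- What a state of the search records about a subgroup. -/
structure State (Q : Subgroup ↥C.K) (l : ℕ) (els : List ℕ) (piv cand F : ℕ) : Prop where
  lt : ∀ x ∈ els, x < 1024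
  mem : ∀ x ∈ els, C.te x ∈ Q
  gen : Q ⊓ C.ser l ≤ closure (C.te '' {x | x ∈ els})
  card : Nat.card ↥(Q ⊓ C.ser l) = 2 ^ els.length
  piv_iff : ∀ j, piv.testBit j = true ↔
    j < l ∧ ∃ q, 2 ^ j ≤ q ∧ q < 2 ^ (j + 1) ∧ C.te q ∈ Q
  cand_of : ∀ a i, invD[a]? = some i → (∀ x ∈ els, Commute (C.te x) (C.te i)) → cand.testBit a = true
  fix_iff : ∀ v, F.testBit v = true ↔ v < 2048 ∧ ∀ x ∈ els, ap (C.code (C.te x)) v = v

open scoped Classical

variable {Q : Subgroup ↥C.K} (hQS : Q ≤ C.ser 10) (hQ2 : ∀ q ∈ Q, q * q = 1)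
  (hQc : ∀ p ∈ Q, ∀ q ∈ Q, Commute p q)
  (hcard : Nat.card ↥Q * ((Finset.range 2048).filter fun v => ∀ q ∈ Q, ap (C.code q) v = v).card = 1024)

include hQS hQ2 hQc hcard

theorem sound : ∀ (fuel l : ℕ) (els : List ℕ) (piv cand F : ℕ), fuel + l = 10 →
    State C Q l els piv cand F → dfs fuel l els piv cand F = true → Q = C.ser 4 := by
  intro fuel
  induction fuel with
  | zero =>
    intro l els piv cand F hl st h
    obtain rfl : l = 10 := by omega
    have hQ : Q ⊓ C.ser 10 = Q := inf_eq_left.2 hQS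
    have hcl : closure (C.te '' {x | x ∈ els}) = Q :=
      le_antisymm ((closure_le _).2 fun y ⟨x, hx, e⟩ => e ▸ st.mem x hx) (hQ ▸ st.gen)
    have hc := st.card
    rw [hQ] at hc
    haveI := C.finite_K
    have hfix : ∀ v, (∀ x ∈ els, ap (C.code (C.te x)) v = v) → v < 2048 →
        ∀ q ∈ Q, ap (C.code q) v = v := by
      intro v hv hlt q hq
      rw [← hcl] at hq
      induction hq using closure_induction with
      | mem y hy =>
        obtain ⟨x, hx, rfl⟩ := hy
        exact hv x hx
      | one => rw [C.code_one, ap_one11 hlt]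
      | mul a b _ _ ha hb => exact C.fix_mul ha hb
      | inv a _ ha =>
        have h := congrArg (ap (C.code a⁻¹)) ha
        rw [← ap_mm, ← C.code_mul, inv_mul_cancel, C.code_one, ap_one11 hlt] at h
        exact h.symm
    simp only [dfs, Bool.or_eq_true, Bool.not_eq_true', beq_iff_eq] at h
    rcases h with h | h
    · exfalso
      rw [hc] at hcard
      set s := (Finset.range 2048).filter fun v => ∀ q ∈ Q, ap (C.code q) v = v with hs
      have hk : els.length ≤ 10 := (Nat.pow_le_pow_iff_right (show 1 < 2 by norm_num)).1 (by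
        have : 2 ^ els.length ∣ 1024 := ⟨_, hcard.symm⟩
        exact Nat.le_of_dvd (by norm_num) this)
      have hsc : s.card = 2 ^ (10 - els.length) := by
        refine Nat.eq_of_mul_eq_mul_left (Nat.two_pow_pos els.length) ?_
        rw [hcard, ← pow_add, show els.length + (10 - els.length) = 10 by omega]; norm_num
      rw [popIs_of_card _ F s (fun v => ?_) hsc] at h
      · exact Bool.noConfusion h
      rw [st.fix_iff, hs, Finset.mem_filter, Finset.mem_range]
      exact ⟨fun ⟨h1, h2⟩ => ⟨h1, hfix v h2 h1⟩,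
        fun ⟨h1, h2⟩ => ⟨h1, fun x hx => h2 _ (st.mem x hx)⟩⟩
    · rw [← hcl, ser]
      congr 1
      subst h
      ext y
      simp only [Set.mem_image, Set.mem_setOf_eq, List.mem_cons, List.not_mem_nil, or_false,
        Set.mem_Iio]
      constructor
      · rintro ⟨x, (rfl | rfl | rfl | rfl), rfl⟩
        exacts [⟨3, by norm_num⟩, ⟨2, by norm_num⟩, ⟨1, by norm_num⟩, ⟨0, by norm_num⟩]
      · rintro ⟨i, hi, rfl⟩
        refine ⟨2 ^ i, ?_, rfl⟩
        interval_cases i <;> simp
  | succ fuel ih =>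
    intro l els piv cand F hl st h
    have hl10 : l < 10 := by omega
    simp only [dfs, Bool.and_eq_true] at h
    have hle : C.ser l ≤ C.ser (l + 1) := C.ser_mono (Nat.le_succ l)
    have htop : ∀ i, i < 2 ^ (l + 1) → C.te i ∉ C.ser l → 2 ^ l ≤ i := fun i hi hn =>
      not_lt.1 fun hlt => hn (C.te_mem l hl10.le i hlt)
    by_cases hex : ∃ q, 2 ^ l ≤ q ∧ q < 2 ^ (l + 1) ∧ C.te q ∈ Q
    · -- minimise the overlap with the earlier pivots
      have hex' : ∃ n q, 2 ^ l ≤ q ∧ q < 2 ^ (l + 1) ∧ C.te q ∈ Q ∧ q &&& piv = n := by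
        obtain ⟨q, h1, h2, h3⟩ := hex; exact ⟨_, q, h1, h2, h3, rfl⟩
      obtain ⟨x, hx1, hx2, hxQ, hxn⟩ := Nat.find_spec hex'
      have hxlt : x < 1024 := hx2.trans_le
        ((Nat.pow_le_pow_right (show 0 < 2 by norm_num) (show l + 1 ≤ 10 by omega)).trans_eq (by norm_num))
      have hzero : x &&& piv = 0 := by
        by_contra hne
        set j := (x &&& piv).log2 with hj
        have hjb : (x &&& piv).testBit j = true := Nat.testBit_log2 hne
        rw [Nat.testBit_and, Bool.and_eq_true] at hjb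
        obtain ⟨hjl, q, hq1, hq2, hqQ⟩ := (st.piv_iff j).1 hjb.2
        obtain ⟨c, hc, hce, hcj, hck⟩ := C.clear_bit (by omega) hxlt hjb.1 hq1 hq2
        have hcl2 : c < 2 ^ (l + 1) := Nat.lt_pow_two_of_testBit c fun k hk => by
          rw [hck k (by omega), Nat.testBit_lt_two_pow (hx2.trans_le
            (Nat.pow_le_pow_right (by norm_num) hk))]
        have hcl1 : 2 ^ l ≤ c := by
          refine Nat.ge_two_pow_of_testBit ?_
          rw [hck l hjl]
          have : x = 2 ^ l + (x - 2 ^ l) := by omega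
          rw [this, Nat.testBit_two_pow_add_eq, Nat.testBit_lt_two_pow (by
            rw [pow_succ'] at hx2; omega), Bool.not_false]
        have hlt : c &&& piv < x &&& piv := by
          refine Nat.lt_of_testBit j (by simp [Nat.testBit_and, hcj]) (by
            simp [Nat.testBit_and, hjb.1, hjb.2]) fun k hk => ?_
          simp [Nat.testBit_and, hck k hk]
        refine absurd (Nat.find_min' hex' ⟨c, hcl1, hcl2, hce ▸ mul_mem hxQ hqQ, rfl⟩) ?_
        omega
      have hx0 : x ≠ 0 := by have := Nat.two_pow_pos l; omega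
      obtain ⟨a, ha191, ha⟩ := C.entry hxlt hx0 (hQ2 _ hxQ)
      obtain ⟨cc, hcc⟩ : ∃ cc, comD[a]? = some cc :=
        ⟨_, List.getElem?_eq_getElem (by rw [fix_len.2.1]; exact ha191)⟩
      obtain ⟨ff, hff⟩ : ∃ ff, fixD[a]? = some ff :=
        ⟨_, List.getElem?_eq_getElem (by rw [fix_len.1]; exact ha191)⟩
      have hent : entries[a]? = some (a, x, cc, ff) := by
        simp [entries, List.getElem?_zip_eq_some, ha191, ha, hcc, hff]
      have hlev := (List.all_eq_true.1 ((List.all_eq_true.1 level_mem) l (List.mem_range.2 hl10))) _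
        (List.mem_of_getElem? hent)
      simp only [Bool.or_eq_true, Bool.not_eq_true', Bool.and_eq_false_iff, List.any_eq_true] at hlev
      obtain ⟨b, hb, hba⟩ : ∃ b ∈ level l, Nat.beq b.1 a = true := by
        rcases hlev with (h | h) | h
        · exact Bool.noConfusion ((Nat.ble_eq_true_of_le hx1).symm.trans h)
        · exact Bool.noConfusion ((Nat.ble_eq_true_of_le hx2).symm.trans h)
        · exact h
      have hbe : b = (a, x, cc, ff) := by
        obtain ⟨n, hn⟩ := List.mem_iff_getElem?.1 (List.mem_of_mem_drop hb |> List.mem_of_mem_take)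
        obtain ⟨b1, b2⟩ := b
        simp only [entries, List.getElem?_zip_eq_some, List.getElem?_range] at hn
        have hn1 : n = b1 := by
          have := hn.1
          rw [List.getElem?_eq_some_iff] at this
          obtain ⟨_, e⟩ := this
          simpa using e
        have he := Nat.eq_of_beq_eq_true hba
        simp only at he
        subst he
        subst hn1
        obtain ⟨b2, b3, b4⟩ := b2
        obtain ⟨-, h2, h3, h4⟩ := hn
        simp only [ha, hcc, hff, Option.some.injEq] at h2 h3 h4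
        rw [h2, h3, h4]
      subst hbe
      have hh := (List.all_eq_true.1 h.2) _ hb
      simp only [Bool.or_eq_true, Bool.not_eq_true'] at hh
      rcases hh with (hh | hh) | hh
      · rw [st.cand_of a x ha fun y hy => hQc _ (st.mem y hy) _ hxQ] at hh
        exact Bool.noConfusion hh
      · rw [hzero] at hh
        exact Bool.noConfusion hh
      refine ih (l + 1) (x :: els) _ _ _ (by omega) ⟨?_, ?_, ?_, ?_, ?_, ?_, ?_⟩ hh
      · simpa [hxlt] using st.lt
      · simpa [hxQ] using st.mem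
      · intro q hq
        have hsub : closure (C.te '' {y | y ∈ els}) ≤ closure (C.te '' {y | y ∈ x :: els}) :=
          closure_mono (Set.image_mono fun y hy => List.mem_cons_of_mem _ hy)
        by_cases hql : q ∈ C.ser l
        · exact hsub (st.gen ⟨hq.1, hql⟩)
        obtain ⟨i, hi, rfl⟩ := C.exists_of_mem (l + 1) hl10 q hq.2
        obtain ⟨c, rfl⟩ : ∃ c, i = 2 ^ l + c := ⟨i - 2 ^ l, by have := htop i hi hql; omega⟩
        obtain ⟨d, hd⟩ : ∃ d, x = 2 ^ l + d := ⟨x - 2 ^ l, by omega⟩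
        rw [pow_succ'] at hi
        have hdl : d < 2 ^ l := by rw [pow_succ'] at hx2; omega
        have hm : (C.te x)⁻¹ * C.te (2 ^ l + c) ∈ Q ⊓ C.ser l := by
          refine ⟨mul_mem (Subgroup.inv_mem Q hxQ) hq.1, ?_⟩
          rw [hd, C.te_step hl10 hdl, C.te_step hl10 (by omega)]
          have := mul_mem (inv_mem (C.te_mem l hl10.le d hdl)) (C.te_mem l hl10.le c (by omega))
          simpa [mul_assoc] using this
        have := mul_mem (subset_closure ⟨x, List.mem_cons_self .., rfl⟩ :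
          C.te x ∈ closure (C.te '' {y | y ∈ x :: els})) (hsub (st.gen hm))
        simpa using this
      · haveI := C.finite_K
        have hxl : C.te x ∉ C.ser l := fun hm =>
          absurd ((C.mem_iff_lt hl10 hx2).1 hm) (by omega)
        have hxl1 : C.te x ∈ C.ser (l + 1) := C.te_mem _ hl10 x hx2
        rw [List.length_cons, pow_succ', ← st.card, ← Nat.card_eq_fintype_card.trans Fintype.card_bool,
          ← Nat.card_prod]
        refine (Nat.card_eq_of_bijective (fun p : Bool × ↥(Q ⊓ C.ser l) =>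
          (⟨bif p.1 then C.te x * p.2 else p.2, by
            cases p.1
            · exact ⟨p.2.2.1, hle p.2.2.2⟩
            · exact ⟨mul_mem hxQ p.2.2.1, mul_mem hxl1 (hle p.2.2.2)⟩⟩ : ↥(Q ⊓ C.ser (l + 1))))
          ⟨?_, ?_⟩).symm
        · rintro ⟨e1, s1⟩ ⟨e2, s2⟩ he
          have he := congrArg Subtype.val he
          cases e1 <;> cases e2 <;> simp only [cond_true, cond_false] at he
          · exact Prod.ext rfl (Subtype.ext he)
          · exact absurd ((Subgroup.mul_mem_cancel_right (C.ser l) s2.2.2).1 (he ▸ s1.2.2)) hxl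
          · exact absurd ((Subgroup.mul_mem_cancel_right (C.ser l) s1.2.2).1 (he.symm ▸ s2.2.2)) hxl
          · exact Prod.ext rfl (Subtype.ext (mul_left_cancel he))
        · rintro ⟨q, hqQ, hql⟩
          by_cases hq : q ∈ C.ser l
          · exact ⟨(false, ⟨q, hqQ, hq⟩), rfl⟩
          obtain ⟨i, hi, rfl⟩ := C.exists_of_mem (l + 1) hl10 q hql
          obtain ⟨c, rfl⟩ : ∃ c, i = 2 ^ l + c := ⟨i - 2 ^ l, by have := htop i hi hq; omega⟩
          obtain ⟨d, hd⟩ : ∃ d, x = 2 ^ l + d := ⟨x - 2 ^ l, by omega⟩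
          rw [pow_succ'] at hi
          have hdl : d < 2 ^ l := by rw [pow_succ'] at hx2; omega
          refine ⟨(true, ⟨(C.te x)⁻¹ * C.te (2 ^ l + c), mul_mem (Subgroup.inv_mem Q hxQ) hqQ, ?_⟩),
            Subtype.ext (mul_inv_cancel_left _ _)⟩
          rw [hd, C.te_step hl10 hdl, C.te_step hl10 (by omega)]
          have := mul_mem (inv_mem (C.te_mem l hl10.le d hdl)) (C.te_mem l hl10.le c (by omega))
          simpa [mul_assoc] using this
      · intro j
        rw [Nat.testBit_or, Bool.or_eq_true, st.piv_iff, Nat.testBit_two_pow, decide_eq_true_eq]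
        constructor
        · rintro (⟨h1, h2⟩ | rfl)
          · exact ⟨by omega, h2⟩
          · exact ⟨by omega, x, hx1, hx2, hxQ⟩
        · rintro ⟨h1, h2⟩
          rcases Nat.lt_succ_iff_lt_or_eq.1 h1 with h1 | h1
          · exact Or.inl ⟨h1, h2⟩
          · exact Or.inr h1.symm
      · intro b i hb hcm
        rw [Nat.testBit_and, Bool.and_eq_true]
        exact ⟨st.cand_of b i hb fun y hy => hcm y (List.mem_cons_of_mem _ hy),
          C.com_bit ha hb hcc (hcm x (List.mem_cons_self ..))⟩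
      · intro v
        rw [Nat.testBit_and, Bool.and_eq_true, st.fix_iff]
        constructor
        · rintro ⟨⟨hv, he⟩, hf⟩
          refine ⟨hv, fun y hy => ?_⟩
          rcases List.mem_cons.1 hy with rfl | hy
          · exact (C.fix_bit ha hff hv).1 hf
          · exact he y hy
        · rintro ⟨hv, he⟩
          exact ⟨⟨hv, fun y hy => he y (List.mem_cons_of_mem _ hy)⟩,
            (C.fix_bit ha hff hv).2 (he x (List.mem_cons_self ..))⟩
    · have heq : Q ⊓ C.ser (l + 1) = Q ⊓ C.ser l := by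
        refine le_antisymm (fun q hq => ⟨hq.1, ?_⟩) (inf_le_inf_left Q hle)
        by_contra hn
        obtain ⟨i, hi, rfl⟩ := C.exists_of_mem (l + 1) hl10 q hq.2
        exact hex ⟨i, htop i hi hn, hi, hq.1⟩
      refine ih (l + 1) els piv cand F (by omega)
        ⟨st.lt, st.mem, heq ▸ st.gen, heq ▸ st.card, fun j => ?_, st.cand_of, st.fix_iff⟩ h.1
      rw [st.piv_iff]
      constructor
      · exact fun ⟨h1, h2⟩ => ⟨by omega, h2⟩
      · rintro ⟨h1, h2⟩
        rcases Nat.lt_succ_iff_lt_or_eq.1 h1 with h1 | h1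
        · exact ⟨h1, h2⟩
        · exact absurd (h1 ▸ h2) hex

/-- The only subgroup with enough fixed vectors. -/
theorem unique_Q : Q = C.ser 4 := by
  refine C.sound hQS hQ2 hQc hcard 10 0 [] 0 (2 ^ 191 - 1) (2 ^ 2048 - 1) rfl
    ⟨by simp, by simp, ?_, ?_, fun j => by simp, fun a i ha _ => ?_, fun v => ?_⟩ dfs_ok
  · simp [ser]
  · simp [ser]
  · rw [Nat.testBit_two_pow_sub_one]
    simpa using inv_len ▸ (List.getElem?_eq_some_iff.1 ha).1
  · rw [Nat.testBit_two_pow_sub_one]
    simp

end Cfg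

end H54.J4A10
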