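import Cfsg.Agent.H54.J4A10.Lin

/-!
The Sylow two-subgroup of order `2 ^ 10` as a table of matrices, checked.
-/

set_option autoImplicit false
set_option maxRecDepth 40000

namespace H54.J4A10

open Cfsg.Agent.H69.J4

/-- The element of the Sylow subgroup with the given ten bits. -/
def tab (i : ℕ) : List ℕ := unp (tabD.getD i 0)

/-- A generator of the series. -/
def gen (j : ℕ) : List ℕ := tab (2 ^ j)

theorem tab_len : tabD.length = 1024 := by decide +kernel

theorem tab_step_ok : ((List.range 10).all fun j =>
    ((tabD.drop (2 ^ j)).take (2 ^ j)).map unp ==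
      ((tabD.take (2 ^ j)).map unp).map (mm (gen j))) = true := by decide +kernel

theorem tab_zero : tab 0 = one11 := by decide +kernel

theorem gen_ok : ((List.range 10).all fun j =>
    isMB (gen j) (unp (ginvD.getD j 0)) (permD.getD j [])) = true := by decide +kernel

theorem sq_ok : ((List.range 10).all fun j =>
    Nat.blt (sqD.getD j 0) (2 ^ j) && (mm (gen j) (gen j) == tab (sqD.getD j 0))) = true := by
  decide +kernel

theorem cj_ok : ((List.range 10).all fun j => (List.range j).all fun i =>
    Nat.blt ((cjD.getD j []).getD i 0) (2 ^ j) &&
      (mm (gen j) (gen i) == mm (tab ((cjD.getD j []).getD i 0)) (gen j))) = true := by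
  decide +kernel

theorem gen_new : ((List.range 10).all fun j =>
    !(((tabD.take (2 ^ j)).map unp).contains (gen j))) = true := by decide +kernel

theorem tab_q : ((List.range 16).all fun i => qMat i == tab i) = true := by decide +kernel

end H54.J4A10
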